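import Cfsg.Agent.H767.PD.Out
import Cfsg.Agent.H160.PD.One
import Cfsg.Agent.H174.AltRank
import Cfsg.Agent.H458.RowPSp

/-!
# The rows of `Sp_6(2)` and `Sp_8(2)` (helper767, S4246 row PSp)
-/

set_option autoImplicit false
set_option linter.unusedSectionVars false

namespace Cfsg.Agent.H767.PD

open Cfsg Module Matrix Subgroup Cfsg.Agent.H568 Cfsg.Agent.H689 Cfsg.Agent.H458 Cfsg.Agent.H458.Zs
open Cfsg.Agent.H458.SpOp Cfsg.Agent.H458.SpAut
open Cfsg.Agent.ClassicalGeometry.SympBasic Cfsg.Agent.ClassicalGeometry.SympAutSemi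
open Cfsg.Agent.H160.PD (v Fx mem_Fx Uniq out Good One Row)

variable {m : ℕ} {F : Type} [Field F] [Fintype F]

local notation "Sp" => Matrix.symplecticGroup (Fin m) F

theorem inner_of_two (hZ : center (PSp m F) = ⊥) (hm : 3 ≤ m) (hF : Fintype.card F = 2) {b : MulAut (PSp m F)}
    (hb : (orderOf b).Prime) (hb2 : orderOf b ≠ 2) :
    ∃ s : Sp, orderOf s = orderOf b ∧ b = MulAut.conj (pr m F s) := by
  haveI : Fact (Nat.Prime 2) := ⟨Nat.prime_two⟩
  have hodd : Odd (orderOf b) := hb.odd_of_ne_two hb2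
  rcases inner_or_field (by omega) (by omega) hodd (pow_orderOf_eq_one b) with
    ⟨s', hs'⟩ | ⟨g, φ, c, hc, hs, hφ, hg⟩
  swap
  · exfalso
    have h1 : Nat.card (F ≃+* F) = 1 := Lib.FieldAutCard.card_ringAut (p := 2) (f := 1) le_rfl (by rw [hF, pow_one])
    have := (Nat.card_eq_one_iff_unique.1 h1).1
    exact hφ (Subsingleton.elim _ _)
  have hso : orderOf s' = orderOf b := by
    rw [hs']
    exact (orderOf_conj hZ s').symm
  obtain ⟨s, rfl, hs⟩ := exists_lift (by omega) hb hb2 s' hso
  exact ⟨s, hs, hs'⟩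

/-- **The row from one prime, `q = 2`.** -/
theorem row_small (hZ : center (PSp m F) = ⊥) (hm : 3 ≤ m) (hF : Fintype.card F = 2) {r j : ℕ} (hr : r.Prime)
    (hr2 : r ≠ 2) (hj : 1 ≤ j) (hjm : j ≤ m) (hd : r ∣ 2 ^ (2 * j) - 1)
    (cent : ∀ y : Sp, orderOf y = r → ¬ 2 ∣ Nat.card ↥(centralizer ({y} : Set Sp)))
    (reg : ∀ s y : Sp, (orderOf s).Prime → orderOf s ≠ 2 → orderOf y = r → s * y = y * s →
      ¬ 2 ∣ Nat.card ↥(centralizer ({s} : Set Sp))) : Row (PSp m F) := by
  haveI : Fact (Nat.Prime 2) := ⟨Nat.prime_two⟩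
  have hF' : Fintype.card F = 2 ^ 1 := by rw [hF, pow_one]
  have hrq : ¬ r ∣ Fintype.card F := by
    rw [hF]
    intro h
    exact hr2 ((Nat.prime_dvd_prime_iff_eq hr Nat.prime_two).1 h)
  have ho : (out (PSp m F)).factorization 2 = 0 := by
    rw [v_out_char hZ (by omega) (by omega) hF' (by omega), Nat.factorization_one, Finsupp.zero_apply]
  refine One.row hZ (p := 2) (r := r) (c := 0) (e := 0) (m := 0) ?_
  refine
    { prime := Nat.prime_two
      good := ⟨hr, hr2, ?_⟩
      cent := ?_
      reg := ?_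
      syl := ?_
      odd := fun h => absurd rfl h
      inv := fun h => absurd rfl h
      two₀ := fun h => absurd rfl h
      two₁ := fun h => absurd rfl h }
  · rw [v_out_odd hZ (by omega) (by omega) hF' hr hr2]
    exact lt_v (by omega) hF' hr hrq hr2 hj hjm (by rw [hF]; exact hd)
  · intro x hx
    obtain ⟨y, rfl, hy⟩ := exists_lift (by omega) hr hr2 x hx
    rw [v, Nat.factorization_eq_zero_of_not_dvd]
    intro h
    exact cent y hy (h.trans (card_cent_pr y))
  · intro b hb hb2 _ x hx hbx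
    obtain ⟨s, hs, hbs⟩ := inner_of_two hZ hm hF hb hb2
    obtain ⟨y, rfl, hy⟩ := exists_lift (by omega) hr hr2 x hx
    rw [hbs] at hbx
    have hsy : s * y = y * s := Quot.comm_of_conj (pr m F) ker_pr.le (coprime_ker (by omega) hr hr2)
      (by rw [← hy, pow_orderOf_eq_one]) hbx
    refine (v_Fx_le hbs 2).trans ?_
    rw [v, Nat.factorization_eq_zero_of_not_dvd (reg s y (hs ▸ hb) (hs ▸ hb2) hy hsy)]
  · intro b hb hb2 _
    obtain ⟨s, hs, hbs⟩ := inner_of_two hZ hm hF hb hb2
    have h1 := v_Fx_inner (by omega) Nat.prime_two hF' hbs (hs ▸ hb) (hs ▸ hb2) (hs ▸ hb2)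
    rw [ho, v_psp_char (by omega) hF']
    have h2 : 3 ^ 2 ≤ m ^ 2 := Nat.pow_le_pow_left hm 2
    rw [max_self]
    omega

/-- **The row of `Sp_8(2)`.** -/
theorem row_eight (hZ : center (PSp 4 F) = ⊥) (hF : Fintype.card F = 2) : Row (PSp 4 F) := by
  have h17 : Ppd (Fintype.card F) (2 * 4) 17 := by
    rw [hF]
    refine ppd_of (by norm_num) (by norm_num) (by norm_num) (by norm_num) ?_
    intro j hj0 hj3
    interval_cases j <;> norm_num
  have hc : ∀ y : Matrix.symplecticGroup (Fin 4) F, orderOf y = 17 →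
      Nat.card ↥(centralizer ({y} : Set (Matrix.symplecticGroup (Fin 4) F))) ∣ 17 := by
    intro y hy
    have := card_cent_zero hy h17 (by norm_num)
    rw [hF] at this
    simpa using this
  refine row_small hZ (by norm_num) hF (r := 17) (j := 4) (by norm_num) (by norm_num) (by norm_num) le_rfl
    (by norm_num) ?_ ?_
  · intro y hy h
    exact absurd (h.trans (hc y hy)) (by norm_num)
  · intro s y hs _ hy hsy
    have h1 : orderOf s ∣ 17 := by
      refine dvd_trans ?_ (hc y hy)
      have hmem : s ∈ centralizer ({y} : Set (Matrix.symplecticGroup (Fin 4) F)) :=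
        mem_centralizer_singleton_iff.2 hsy
      rw [← Subgroup.orderOf_mk s hmem]
      exact orderOf_dvd_natCard _
    have h2 : orderOf s = 17 := (Nat.prime_dvd_prime_iff_eq hs (by norm_num)).1 h1
    intro h
    exact absurd (h.trans (hc s h2)) (by norm_num)

section Six

/-- involutions do not commute with elements of order seven of `Sp_6(2)` -/
theorem no_invol (hF : Fintype.card F = 2) {g y : Matrix.symplecticGroup (Fin 3) F} (hg : g * g = 1) (hg1 : g ≠ 1)
    (hy : orderOf y = 7) (hgy : g * y = y * g) : False := by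
  classical
  have h7 : Ppd (Fintype.card F) 3 7 := by
    rw [hF]
    refine ppd_of (by norm_num) (by norm_num) (by norm_num) (by norm_num) ?_
    intro j hj0 hj3
    interval_cases j <;> norm_num
  have hch : CharP F 2 := charP_of_card (f := 1) Nat.prime_two (by rw [hF, pow_one])
  have h2 : (2 : F) = 0 := by exact_mod_cast CharP.cast_eq_zero F 2
  have hneg : ∀ a : F, -a = a := fun a => by linear_combination (-a) * h2
  set Y := op 3 F y with hY
  set G := op 3 F g with hG
  have hpow : Y ^ 7 = 1 := by rw [hY, ← map_pow, ← hy, pow_orderOf_eq_one, map_one]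
  have hfr : finrank F (Fin 3 ⊕ Fin 3 → F) = 6 := finrank_V
  have hB : ∀ a b, sympBilin 3 F (Y a) (Y b) = sympBilin 3 F a b := op_form y
  have hBg : ∀ a b, sympBilin 3 F (G a) (G b) = sympBilin 3 F a b := op_form g
  have hsw : ∀ a b, sympBilin 3 F a b = sympBilin 3 F b a := fun a b => by
    rw [sympBilin_apply, sympBilin_apply, sympForm_swap, hneg]
  -- `V = W ⊕ C`
  have hinf : W Y ⊓ C Y = ⊥ := by
    rw [eq_bot_iff]
    intro w hw
    rw [Submodule.mem_bot]
    exact disj_of hpow h7 hw.1 (mem_C.1 hw.2)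
  have hrn : finrank F (W Y) + finrank F (C Y) = 6 := by
    rw [← hfr]
    exact LinearMap.finrank_range_add_finrank_ker (Y - 1)
  have hsup : W Y ⊔ C Y = ⊤ := by
    apply Submodule.eq_top_of_finrank_eq
    have h3 := Submodule.finrank_sup_add_finrank_inf_eq (W Y) (C Y)
    rw [hinf, finrank_bot] at h3
    omega
  -- the form on `C`
  have heven : Even (finrank F (C Y)) := by
    let β : LinearMap.BilinForm F (C Y) := (sympBilin 3 F).domRestrict₁₂ (C Y) (C Y)
    have hβ : ∀ a b : C Y, β a b = sympBilin 3 F a b := fun _ _ => rfl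
    have halt : β.IsAlt := fun a => by
      rw [hβ]; exact sympBilin_isAlt _
    have h3 := Cfsg.Agent.H174.even_finrank_range_of_isAlt β halt
    have hker : LinearMap.ker β = ⊥ := by
      rw [LinearMap.ker_eq_bot']
      intro a ha
      apply Subtype.ext
      refine nondeg _ fun v => ?_
      rw [hsw]
      have hv : v ∈ W Y ⊔ C Y := hsup ▸ Submodule.mem_top
      obtain ⟨w, hw, c, hc, rfl⟩ := Submodule.mem_sup.1 hv
      rw [map_add, Sit.orth (sympBilin 3 F) hB a.2 hw, zero_add]
      have := LinearMap.congr_fun ha ⟨c, hc⟩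
      exact this
    have h4 := LinearMap.finrank_range_add_finrank_ker β
    rw [hker, finrank_bot, add_zero] at h4
    rwa [h4] at h3
  have hC : C Y = ⊥ := by
    have h3 := dvd_finrank_of hpow h7 ⊤ (fun _ _ => Submodule.mem_top)
    rw [top_inf_eq, finrank_top, hfr] at h3
    have h4 : finrank F (C Y) ≠ 6 := by
      intro h5
      have h6 : C Y = ⊤ := Submodule.eq_top_of_finrank_eq (by rw [h5, hfr])
      have h7 : y = 1 := by
        apply SpOp.op_injective
        rw [map_one]
        refine LinearMap.ext fun v => ?_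
        exact mem_C.1 (h6 ▸ Submodule.mem_top : v ∈ C Y)
      rw [h7, orderOf_one] at hy
      omega
    apply Submodule.finrank_eq_zero.1
    obtain ⟨c, hc⟩ := heven
    obtain ⟨d, hd⟩ := h3
    omega
  have hsurj : ∀ v, ∃ a, Y a - a = v := by
    intro v
    have h3 : W Y = ⊤ := by
      rw [hC, sup_bot_eq] at hsup
      exact hsup
    exact mem_W.1 (h3 ▸ Submodule.mem_top : v ∈ W Y)
  have hGG : ∀ a, G (G a) = a := by
    intro a
    rw [hG, ← Module.End.mul_apply, ← map_mul, hg, map_one]
    rfl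
  have hGY : ∀ a, G (Y a) = Y (G a) := comm_op hgy
  have hGs : ∀ a b, sympBilin 3 F (G a) b = sympBilin 3 F (G b) a := by
    intro a b
    rw [← hBg (G a) b, hGG, hsw]
  have hQ : ∀ v, sympBilin 3 F (G v) v = 0 := by
    intro v
    obtain ⟨a, rfl⟩ := hsurj v
    have h3 : sympBilin 3 F (G (Y a)) (Y a) = sympBilin 3 F (G a) a := by rw [hGY, hB]
    rw [map_sub, map_sub, map_sub, LinearMap.sub_apply, LinearMap.sub_apply, h3, hGs a (Y a)]
    linear_combination (sympBilin 3 F (G a) a - sympBilin 3 F (G (Y a)) a) * h2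
  -- the form
  let β : LinearMap.BilinForm F (Fin 3 ⊕ Fin 3 → F) := (sympBilin 3 F).comp (G - 1)
  have hβ : ∀ a b, β a b = sympBilin 3 F (G a - a) b := fun _ _ => rfl
  have halt : β.IsAlt := fun a => by
    rw [hβ, map_sub, LinearMap.sub_apply, hQ, sympBilin_isAlt, sub_zero]
  have h3 := Cfsg.Agent.H174.even_finrank_range_of_isAlt β halt
  have hker : LinearMap.ker β = LinearMap.ker (G - 1) := by
    ext a
    rw [LinearMap.mem_ker, LinearMap.mem_ker]
    constructor
    · intro ha
      refine nondeg _ fun v => ?_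
      rw [hsw]
      exact LinearMap.congr_fun ha v
    · intro ha
      refine LinearMap.ext fun v => ?_
      have h5 : G a - a = 0 := ha
      rw [hβ, h5, map_zero]
  have h4 := LinearMap.finrank_range_add_finrank_ker β
  have h5 := LinearMap.finrank_range_add_finrank_ker (G - 1)
  rw [hker, hfr] at h4
  rw [hfr] at h5
  have h6 : LinearMap.range (G - 1) ≤ LinearMap.ker (G - 1) := by
    rintro _ ⟨a, rfl⟩
    rw [LinearMap.mem_ker, LinearMap.sub_apply, LinearMap.sub_apply, Module.End.one_apply, Module.End.one_apply,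
      map_sub, hGG]
    have h8 : a - G a - (G a - a) = (2 : F) • (a - G a) := by module
    rw [h8, h2, zero_smul]
  have h8 := Submodule.finrank_mono h6
  have h9 := dvd_finrank_of hpow h7 (LinearMap.ker (G - 1)) (by
    intro a ha
    have h10 : G a - a = 0 := ha
    change G (Y a) - Y a = 0
    rw [hGY, ← map_sub, h10, map_zero])
  rw [hC, inf_bot_eq, finrank_bot, Nat.sub_zero] at h9
  have h10 : finrank F (LinearMap.ker (G - 1)) ≠ 6 := by
    intro h11
    have h12 : LinearMap.ker (G - 1) = ⊤ := Submodule.eq_top_of_finrank_eq (by rw [h11, hfr])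
    apply hg1
    apply SpOp.op_injective
    rw [map_one]
    refine LinearMap.ext fun v => ?_
    have h13 : G v - v = 0 := (h12 ▸ Submodule.mem_top : v ∈ LinearMap.ker (G - 1))
    exact sub_eq_zero.1 h13
  obtain ⟨c, hc⟩ := h3
  obtain ⟨d, hd⟩ := h9
  omega

/-- **The row of `Sp_6(2)`.** -/
theorem row_six (hZ : center (PSp 3 F) = ⊥) (hF : Fintype.card F = 2) : Row (PSp 3 F) := by
  have h5 : Ppd (Fintype.card F) (2 * (3 - 1)) 5 := by
    rw [hF]
    refine ppd_of (by norm_num) (by norm_num) (by norm_num) (by norm_num) ?_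
    intro j hj0 hj3
    interval_cases j <;> norm_num
  have hcard : Nat.card (Matrix.symplecticGroup (Fin 3) F) = 2 ^ 9 * 3 ^ 4 * 5 * 7 := by
    rw [LieClassical.SympCount.card_symplecticGroup, hF]
    simp [Finset.prod_range_succ]
  haveI : Fact (Nat.Prime 2) := ⟨Nat.prime_two⟩
  have hc : ∀ y : Matrix.symplecticGroup (Fin 3) F, orderOf y = 7 →
      ¬ 2 ∣ Nat.card ↥(centralizer ({y} : Set (Matrix.symplecticGroup (Fin 3) F))) := by
    intro y hy h
    obtain ⟨⟨g, hg⟩, hgo⟩ := exists_prime_orderOf_dvd_card' 2 h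
    rw [Subgroup.orderOf_mk] at hgo
    refine no_invol hF (g := g) (y := y) ?_ ?_ hy (mem_centralizer_singleton_iff.1 hg)
    · rw [← sq, ← hgo, pow_orderOf_eq_one]
    · rintro rfl
      rw [orderOf_one] at hgo
      omega
  refine row_small hZ le_rfl hF (r := 7) (j := 3) (by norm_num) (by norm_num) (by norm_num) le_rfl
    (by norm_num) hc ?_
  intro s y hs hs2 hy hsy
  have hpd : orderOf s ∣ 2 ^ 9 * 3 ^ 4 * 5 * 7 := by rw [← hcard]; exact orderOf_dvd_natCard s
  have hpc : orderOf s = 3 ∨ orderOf s = 5 ∨ orderOf s = 7 := by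
    rcases hs.dvd_mul.1 hpd with h1 | h1
    · rcases hs.dvd_mul.1 h1 with h1 | h1
      · rcases hs.dvd_mul.1 h1 with h1 | h1
        · exact absurd ((Nat.prime_dvd_prime_iff_eq hs Nat.prime_two).1 (hs.dvd_of_dvd_pow h1)) hs2
        · exact Or.inl ((Nat.prime_dvd_prime_iff_eq hs Nat.prime_three).1 (hs.dvd_of_dvd_pow h1))
      · exact Or.inr (Or.inl ((Nat.prime_dvd_prime_iff_eq hs Nat.prime_five).1 h1))
    · exact Or.inr (Or.inr ((Nat.prime_dvd_prime_iff_eq hs (by norm_num)).1 h1))
  rcases hpc with h | h | h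
  · exact absurd hsy (RowPSp.no_comm_six hF h hy)
  · exfalso
    have h1 := card_cent_one h h5 le_rfl
    rw [hF] at h1
    have h2 : 7 ∣ Nat.card ↥(centralizer ({s} : Set (Matrix.symplecticGroup (Fin 3) F))) := by
      have hmem : y ∈ centralizer ({s} : Set (Matrix.symplecticGroup (Fin 3) F)) :=
        mem_centralizer_singleton_iff.2 hsy.symm
      rw [← hy, ← Subgroup.orderOf_mk y hmem]
      exact orderOf_dvd_natCard _
    exact absurd (h2.trans h1) (by norm_num)
  · exact hc s h

end Six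

end Cfsg.Agent.H767.PD
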