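import Cfsg.Agent.H767.PD.Fld
import Cfsg.Agent.H160.PD.One
import Cfsg.Agent.H458.RowPSp

/-!
# The row of `PSp_4(q)` (helper767, S4246 row PSp)
-/

set_option autoImplicit false
set_option linter.unusedSectionVars false

namespace Cfsg.Agent.H767.PD

open Cfsg Module Matrix Subgroup Cfsg.Agent.H568 Cfsg.Agent.H689 Cfsg.Agent.H458 Cfsg.Agent.H458.Zs
open Cfsg.Agent.H458.SpOp Cfsg.Agent.H458.SpAut
open Cfsg.Agent.ClassicalGeometry.SympBasic Cfsg.Agent.ClassicalGeometry.SympAutSemi
open Cfsg.Agent.H160.PD (v Fx mem_Fx Uniq out Good One Row)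

variable {F : Type} [Field F] [Fintype F] {p f : ℕ}

theorem v_out_le (hZ : center (PSp 2 F) = ⊥) (h3 : 3 ≤ Fintype.card F) [hp : Fact p.Prime]
    (hF : Fintype.card F = p ^ f) : (out (PSp 2 F)).factorization p ≤ f := by
  obtain ⟨hf, -⟩ := card_ne_one hp.1 hF
  have h1 : f.factorization p < f := Nat.factorization_lt p (by omega)
  by_cases h : p = 2
  · rw [out_eq hZ le_rfl (fun _ => h3) hF, if_pos ⟨rfl, h⟩, Nat.factorization_mul
      (mul_ne_zero (by norm_num) (gcd_ne _)) (by omega), Nat.factorization_mul (by norm_num) (gcd_ne _),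
      Finsupp.add_apply, Finsupp.add_apply, gcd_fact_char hf, h, Nat.prime_two.factorization_self]
    rw [h] at h1
    omega
  · rw [v_out_char hZ le_rfl (fun _ => h3) hF (by omega)]
    omega

/-- the `2`-parts -/
theorem two_num {q f p : ℕ} (hp : 1 < p) (hq : q = p ^ f) (hf : 1 ≤ f) (hodd : Odd q) :
    (q ^ 2 + 1).factorization 2 + f.factorization 2 + 3 <
      (q ^ (2 * 1) - 1).factorization 2 + (q ^ (2 * 2) - 1).factorization 2 := by
  have hq1 : 1 < q := by rw [hq]; exact Nat.one_lt_pow (by omega) hp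
  have hne : q ^ 2 - 1 ≠ 0 := by
    have : 1 < q ^ 2 := Nat.one_lt_pow (by norm_num) hq1
    omega
  have h1 : q ^ (2 * 2) - 1 = (q ^ 2 + 1) * (q ^ 2 - 1) := by
    rw [pow_mul]
    have := Nat.sq_sub_sq (q ^ 2) 1
    rw [one_pow] at this
    exact this
  have h2 : 3 ≤ (q ^ 2 - 1).factorization 2 := by
    rw [← Nat.prime_two.pow_dvd_iff_le_factorization hne]
    obtain ⟨k, rfl⟩ := hodd
    obtain ⟨c, hc⟩ := Nat.even_mul_succ_self k
    refine ⟨c, ?_⟩
    have h3 : (2 * k + 1) ^ 2 = 4 * (k * (k + 1)) + 1 := by ring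
    rw [h3, hc]
    omega
  have h3 : 1 + f.factorization 2 ≤ (q ^ 2 - 1).factorization 2 := by
    have h4 : 2 ∣ (p ^ f) ^ 2 - 1 := by
      rw [← hq]
      exact fact_dvd_of h2
    rw [hq]
    exact lte hp Nat.prime_two hf (by norm_num) h4
  rw [h1, Nat.factorization_mul (by omega) hne, Finsupp.add_apply, mul_one]
  omega
where
  fact_dvd_of {n : ℕ} (h : 3 ≤ n.factorization 2) : 2 ∣ n := by
    by_contra h1
    rw [Nat.factorization_eq_zero_of_not_dvd h1] at h
    omega

/-- **The row of `PSp_4(q)`.** -/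
theorem row_two (hZ : center (PSp 2 F) = ⊥) (h3 : 3 ≤ Fintype.card F) [hp : Fact p.Prime]
    (hF : Fintype.card F = p ^ f) : Row (PSp 2 F) := by
  obtain ⟨hf, hpq⟩ := card_ne_one hp.1 hF
  have h22 : 2 = 2 → 3 ≤ Fintype.card F := fun _ => h3
  obtain ⟨r, h0⟩ := exists_ppd (q := p) (k := 2 * 2 * f) hp.1.two_le (by omega) (by omega)
  have h0' : Ppd (Fintype.card F) (2 * 2) r := by
    rw [hF]; exact ppd_field (by omega) (by rw [mul_comm]; exact h0)
  have hle0 := h0.le (by omega)
  have hr2 : r ≠ 2 := by omega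
  have hvo := v_out_le hZ h3 hF
  have hvS : v p (PSp 2 F) = 2 ^ 2 * f := v_psp_char (by norm_num) hF
  -- the elements commuting with an element of order `r`
  have hs : ∀ s y : Matrix.symplecticGroup (Fin 2) F, (orderOf s).Prime → orderOf s ≠ 2 → orderOf y = r →
      s * y = y * s → Nat.card ↥(centralizer ({s} : Set (Matrix.symplecticGroup (Fin 2) F))) ∣
        Fintype.card F ^ 2 + 1 := by
    intro s y hs hs2 hy hsy
    have h1 : orderOf s ∣ Fintype.card F ^ 2 + 1 :=
      orderOf_dvd_of_pow_eq_one (pow_eq_one hy h0' (by norm_num) hsy)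
    exact card_cent_zero rfl (RowPSp.ppd_four Fintype.card_pos hs hs2 h1) (by norm_num)
  have hnd : ¬ p ∣ Fintype.card F ^ 2 + 1 := not_dvd_add hp.1 hpq (by norm_num)
  -- the `2`-part
  have htwo : p ≠ 2 → (Fintype.card F ^ 2 + 1).factorization 2 + (out (PSp 2 F)).factorization 2 <
      v 2 (PSp 2 F) := by
    intro hp2
    have hodd : Odd (Fintype.card F) := by
      rw [hF]
      exact (hp.1.odd_of_ne_two hp2).pow
    have hg : Nat.gcd 2 (Fintype.card F - 1) = 2 := by
      apply Nat.gcd_eq_left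
      obtain ⟨k, hk⟩ := hodd
      exact ⟨k, by omega⟩
    have h1 : v 2 (PSp 2 F) + 1 = v 2 (Matrix.symplecticGroup (Fin 2) F) := by
      rw [v, v, ← card_psp (m := 2) (F := F) (by norm_num), hg, Nat.factorization_mul Nat.card_pos.ne' (by norm_num),
        Finsupp.add_apply, Nat.prime_two.factorization_self]
    have h2q : ¬ 2 ∣ Fintype.card F := by
      rw [← even_iff_two_dvd, Nat.not_even_iff_odd]
      exact hodd
    have h2 := v_sp_eq (m := 2) h2q
    rw [Finset.sum_range_succ, Finset.sum_range_succ, Finset.sum_range_zero, zero_add, zero_add] at h2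
    have h4 : (out (PSp 2 F)).factorization 2 = 1 + f.factorization 2 := by
      rw [out_eq hZ le_rfl h22 hF, if_neg (by omega), one_mul, ← hF, hg, Nat.factorization_mul (by norm_num)
        (by omega), Finsupp.add_apply, Nat.prime_two.factorization_self]
    have h5 := two_num hp.1.one_lt hF hf hodd
    rw [h4]
    simp only [one_add_one_eq_two] at h2
    omega
  refine One.row hZ (p := p) (r := r) (c := 0) (e := 0) (m := 0) ?_
  refine
    { prime := hp.1
      good := good_of hZ le_rfl h22 hF le_rfl le_rfl h0'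
      cent := fun x hx => (v_cent_zero le_rfl hp.1 hF h0' hx).le
      reg := ?_
      syl := ?_
      odd := ?_
      inv := ?_
      two₀ := ?_
      two₁ := ?_ }
  · intro b hb hb2 hbp x hx hbx
    obtain ⟨s, y, hso, hbs, hy, -, hsy⟩ := inner_of_fix hZ le_rfl h22 hF h0 (by omega) (by omega) hr2
      hb hb2 hx hbx
    refine (v_Fx_le hbs p).trans ?_
    rw [v, Nat.factorization_eq_zero_of_not_dvd]
    intro h
    exact hnd (h.trans (hs s y (hso ▸ hb) (hso ▸ hb2) hy hsy))
  · intro b hb hb2 hbp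
    rw [hvS, max_self]
    have hodd : Odd (orderOf b) := hb.odd_of_ne_two hb2
    rcases inner_or_field le_rfl h22 hodd (pow_orderOf_eq_one b) with ⟨s', hs'⟩ | ⟨g, φ, c, hc, hs, hφ, hg⟩
    · have hso : orderOf s' = orderOf b := by
        rw [hs']
        exact (orderOf_conj hZ s').symm
      obtain ⟨s, rfl, hs⟩ := exists_lift (by norm_num) hb hb2 s' hso
      have h1 := v_Fx_inner le_rfl hp.1 hF hs' (hs ▸ hb) (hs ▸ hb2) (hs ▸ hbp)
      omega
    · obtain ⟨h1, h2⟩ := v_Fx_field hZ le_rfl h22 hF hb hbp hc hs hφ hg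
      have h4 : f / orderOf b ≤ f / 3 := Nat.div_le_div_left (by have := hb.two_le; omega) (by norm_num)
      omega
  · intro hp2 H hH hr
    have h1 := odd_zero le_rfl hF h0' H hH hr
    have h2 : (2 * 2).factorization p = 0 := by
      apply Nat.factorization_eq_zero_of_not_dvd
      intro h
      rcases hp.1.dvd_mul.1 h with h | h <;> exact hp2 ((Nat.prime_dvd_prime_iff_eq hp.1 Nat.prime_two).1 h)
    omega
  · intro hp2 s' hs'
    obtain ⟨s, rfl⟩ := surj_pr (m := 2) (F := F) s'
    have hk2 : ∀ g : Matrix.symplecticGroup (Fin 2) F, pr 2 F g = 1 → g ^ 2 = 1 := by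
      intro g hg
      have h1 := Quot.pow_card_ker (pr 2 F) hg
      have h2 : Nat.card (pr 2 F).ker ∣ 2 := by
        rw [ker_pr, LieClassical.SympCenter.card_center (by norm_num)]
        exact Nat.gcd_dvd_left _ _
      exact orderOf_dvd_iff_pow_eq_one.1 ((orderOf_dvd_of_pow_eq_one h1).trans h2)
    have h1 : s ^ 4 = 1 := by
      have h2 := hk2 (s ^ 2) (by rw [map_pow]; exact orderOf_dvd_iff_pow_eq_one.1 hs'.dvd)
      rw [← pow_mul] at h2
      exact h2
    have h2 := v_cent_le le_rfl hp.1 hF (s := s) (N := 4) (by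
      intro h
      have h5 : p ∣ 2 ^ 2 := h
      exact hp2 ((Nat.prime_dvd_prime_iff_eq hp.1 Nat.prime_two).1 (hp.1.dvd_of_dvd_pow h5))) h1 (by
      intro lam hl _
      have h5 : s ∈ (pr 2 F).ker := by
        rw [ker_pr, mem_center_iff]
        intro g
        apply eq_of_op
        intro x
        rw [map_mul, map_mul, Module.End.mul_apply, Module.End.mul_apply, hl, hl, map_smul]
      rw [MonoidHom.mem_ker] at h5
      rw [h5, orderOf_one] at hs'
      omega)
    have h5 := v_le_of_dvd (t := p) (card_cent_pr s) Nat.card_pos.ne'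
    have h6 : (out (PSp 2 F)).factorization p < f := by
      rw [v_out_char hZ le_rfl h22 hF (by omega)]
      exact Nat.factorization_lt p (by omega)
    rw [hvS, max_self]
    simp only [v] at h2 h5 ⊢
    omega
  · intro hp2 x hx
    have h1 := v_le_of_dvd (t := 2) (cent_zero_pr le_rfl h0' hx) (by omega)
    have h2 := htwo hp2
    omega
  · intro hp2 b hb hb2 x hx hbx
    obtain ⟨s, y, hso, hbs, hy, -, hsy⟩ := inner_of_fix hZ le_rfl h22 hF h0 (by omega) (by omega) hr2
      hb hb2 hx hbx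
    have h1 := v_Fx_le hbs 2
    have h5 := v_le_of_dvd (t := 2) (hs s y (hso ▸ hb) (hso ▸ hb2) hy hsy) (by omega)
    have h2 := htwo hp2
    omega

end Cfsg.Agent.H767.PD
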