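import Cfsg.Agent.H767.PD.Three
import Cfsg.Agent.H767.PD.Small
import Cfsg.Agent.H767.PD.TwoDim

/-!
# S4246: the row of the symplectic groups (helper767)
-/

set_option autoImplicit false
set_option linter.unusedSectionVars false

namespace Cfsg.Agent.H767.PD

open Cfsg Subgroup Cfsg.Agent.H458

universe u

theorem row_std {F : Type} [Field F] [Fintype F] {m : ℕ} (hm : 2 ≤ m) (h22 : m = 2 → 3 ≤ Fintype.card F) :
    H160.PD.Row (PSp m F) := by
  haveI : IsSimpleGroup (PSp m F) := S0270.result m hm h22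
  have hZ : center (PSp m F) = ⊥ := H160.PD.center_eq_bot (RowPSp.not_comm hm h22)
  obtain ⟨p, hp⟩ := CharP.exists F
  obtain ⟨f, hpp, hF⟩ := FiniteField.card F p
  haveI : Fact p.Prime := ⟨hpp⟩
  have hf := f.pos
  by_cases h2 : m = 2
  · subst h2
    exact row_two hZ (h22 rfl) hF
  by_cases h3 : m = 3 ∧ Fintype.card F = 2
  · obtain ⟨rfl, h3⟩ := h3
    exact row_six hZ h3
  by_cases h4 : m = 4 ∧ Fintype.card F = 2
  · obtain ⟨rfl, h4⟩ := h4
    exact row_eight hZ h4
  have key : ∀ k : ℕ, 2 ≤ k → k * (f : ℕ) = 3 → (f : ℕ) = 1 ∧ k = 3 := by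
    intro k hk h
    have h5 : (f : ℕ) < 2 := by
      by_contra hcon
      have := Nat.mul_le_mul hk (not_lt.1 hcon)
      omega
    have h6 : (f : ℕ) = 1 := by omega
    rw [h6] at h
    exact ⟨h6, by omega⟩
  refine row_three hZ (by omega) hF ?_ ?_
  · rintro ⟨rfl, h⟩
    obtain ⟨h5, h6⟩ := key m hm (by rw [mul_assoc] at h; omega)
    exact h3 ⟨h6, by rw [hF, h5, pow_one]⟩
  · rintro ⟨rfl, h⟩
    obtain ⟨h5, h6⟩ := key (m - 1) (by omega) (by rw [mul_assoc] at h; omega)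
    exact h4 ⟨by omega, by rw [hF, h5, pow_one]⟩

/-- **The row of the symplectic groups.** -/
theorem row_psp (K : Type u) [Group K] [Finite K] [IsSimpleGroup K] (h : IsPSp K) : Cfsg.Agent.H160.PD.Row K := by
  obtain ⟨F, _, _, m, hm, h22, ⟨e⟩⟩ := h
  exact (row_std hm h22).congr e

end Cfsg.Agent.H767.PD
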