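import Cfsg.Agent.H767.PD.Cent
import Cfsg.Agent.H160.PD.Tools

/-!
# Automorphisms of odd prime order of `PSp_2m(q)` fixing elements of large order (helper767, S4246 row PSp)
-/

set_option autoImplicit false
set_option linter.unusedSectionVars false

namespace Cfsg.Agent.H767.PD

open Cfsg Module Matrix Subgroup Cfsg.Agent.H568 Cfsg.Agent.H689 Cfsg.Agent.H458 Cfsg.Agent.H458.Zs
open Cfsg.Agent.H458.SpOp Cfsg.Agent.H458.SpAut
open Cfsg.Agent.ClassicalGeometry.SympBasic Cfsg.Agent.ClassicalGeometry.SympAutSemi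
open Cfsg.Agent.ClassicalGeometry.SympGamma
open Cfsg.Agent.H160.PD (v Fx mem_Fx)

theorem Fx_conj {S : Type*} [Group S] (s : S) : Fx (MulAut.conj s) = centralizer {s} := by
  ext x
  rw [mem_Fx, mem_centralizer_singleton_iff, MulAut.conj_apply, mul_inv_eq_iff_eq_mul]
  exact eq_comm

theorem orderOf_conj {S : Type*} [Group S] (hZ : center S = ⊥) (s : S) : orderOf (MulAut.conj s) = orderOf s :=
  orderOf_injective (MulAut.conj : S →* MulAut S) (H160.PD.conj_injective hZ) s

variable {m : ℕ} {F : Type} [Field F] [Fintype F]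

/-- elements of order primitive over the prime field, of large degree, are not fixed by field automorphisms -/
theorem field_not_fixed' {g : semiSim m F} {φ : F ≃+* F} {c : F} (hs : IsSemi g.1 φ c)
    (hφ : φ ≠ RingEquiv.refl F) {r f l D : ℕ} [Fact r.Prime] (hF : Fintype.card F = r ^ f) (hm : 1 ≤ m)
    (hppd : Ppd r D l) (hD0 : 0 < D) (hD : 2 * m * f < 2 * D) (hl2 : l ≠ 2) (y : PSp m F) (hy : orderOf y = l) :
    Psi m F g y ≠ y := by
  intro hfix
  obtain ⟨x, rfl, hx⟩ := exists_lift hm hppd.prime hl2 y hy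
  have h1 : conjHom m F g x = x := by
    refine Quot.eq_of_map_eq (pr m F) ker_pr.le (coprime_ker hm hppd.prime hl2) (l := l) ?_ ?_ hfix
    · rw [← map_pow, ← hx, pow_orderOf_eq_one, map_one]
    · rw [← hx, pow_orderOf_eq_one]
  have h2 : ∀ v, g.1 (rho m F x v) = rho m F x (g.1 v) := by
    intro v
    have h3 := rho_conjHom g x
    rw [h1] at h3
    have h4 := DFunLike.congr_fun h3 (g.1 v)
    rw [Equiv.Perm.mul_apply, Equiv.Perm.mul_apply, perm_inv_apply_self] at h4
    exact h4.symm
  -- the characteristic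
  have hf : f ≠ 0 := by
    rintro rfl
    rw [pow_zero] at hF
    have := Fintype.one_lt_card (α := F)
    omega
  have hchar : CharP F r := by
    obtain ⟨s, hs⟩ := CharP.exists F
    obtain ⟨n, hsp, hn⟩ := FiniteField.card F s
    have h3 : s ∣ r ^ f := by rw [← hF, hn]; exact dvd_pow_self s n.ne_zero
    have h4 : s = r := (Nat.prime_dvd_prime_iff_eq hsp Fact.out).1 (hsp.dvd_of_dvd_pow h3)
    rwa [h4] at hs
  let _ : Algebra (ZMod r) F := ZMod.algebra F r
  have hfr : finrank (ZMod r) (Fin m ⊕ Fin m → F) = 2 * m * f := by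
    have h3 : Fintype.card (Fin m ⊕ Fin m → F) = Fintype.card (ZMod r) ^ finrank (ZMod r) (Fin m ⊕ Fin m → F) :=
      Module.card_eq_pow_finrank
    rw [Fintype.card_fun, hF, Fintype.card_sum, Fintype.card_fin, ZMod.card, ← pow_mul] at h3
    have h4 := Nat.pow_right_injective (Fact.out : r.Prime).two_le h3
    rw [← h4]
    ring
  let yy : End (ZMod r) (Fin m ⊕ Fin m → F) := (op m F x).restrictScalars (ZMod r)
  have hyy : ∀ n v, (yy ^ n) v = (op m F (x ^ n)) v := by
    intro n
    induction n with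
    | zero => intro v; rw [pow_zero, pow_zero, map_one]; rfl
    | succ n ih =>
      intro v
      rw [pow_succ, pow_succ, map_mul, Module.End.mul_apply, Module.End.mul_apply, ← ih]
      rfl
  have S : Sit yy l D :=
    { pow := by
        refine LinearMap.ext fun v => ?_
        rw [hyy, ← hx, pow_orderOf_eq_one, map_one]
        rfl
      ne := by
        intro h3
        have h4 : x = 1 := by
          apply SpOp.op_injective
          rw [map_one]
          refine LinearMap.ext fun v => ?_
          exact LinearMap.congr_fun h3 v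
        rw [h4, orderOf_one] at hx
        exact hppd.prime.one_lt.ne hx
      ppd := by rw [ZMod.card]; exact hppd
      pos := hD0
      dim := by rw [hfr]; exact hD }
  let s : End (ZMod r) (Fin m ⊕ Fin m → F) := AddMonoidHom.toZModLinearMap r
    { toFun := g.1
      map_zero' := by
        have h3 := hs.1 0 0
        rw [add_zero] at h3
        exact left_eq_add.1 h3
      map_add' := hs.1 }
  have hsv : ∀ v, s v = g.1 v := fun _ => rfl
  apply hφ
  ext a
  rw [RingEquiv.refl_apply]
  let t : End (ZMod r) (Fin m ⊕ Fin m → F) := AddMonoidHom.toZModLinearMap r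
    { toFun := fun v => a • v
      map_zero' := smul_zero a
      map_add' := fun v w => smul_add a v w }
  have htv : ∀ v, t v = a • v := fun _ => rfl
  have hc1 : ∀ v, s (yy v) = yy (s v) := fun v => h2 v
  have hc2 : ∀ v, t (yy v) = yy (t v) := fun v => by
    rw [htv, htv]
    exact ((op m F x).map_smul a v).symm
  obtain ⟨v, hvW, hv⟩ := S.exists_ne
  have h3 := S.comm_comm hc1 hc2 hvW
  rw [htv, htv, hsv, hsv, hs.2.1] at h3
  have h4 : g.1 v ≠ 0 := by
    intro h5
    apply hv
    apply g.1.injective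
    rw [h5]
    have h6 := hs.1 0 0
    rw [add_zero] at h6
    exact (left_eq_add.1 h6).symm
  have h5 : (φ a - a) • g.1 v = 0 := by rw [sub_smul, h3, sub_self]
  rcases smul_eq_zero.1 h5 with h6 | h6
  · exact sub_eq_zero.1 h6
  · exact absurd h6 h4

variable {p f : ℕ}

/-- **Automorphisms of odd prime order fixing elements of large order are inner.** -/
theorem inner_of_fix (hZ : center (PSp m F) = ⊥) (hm : 2 ≤ m) (h22 : m = 2 → 3 ≤ Fintype.card F) [Fact p.Prime]
    (hF : Fintype.card F = p ^ f) {l D : ℕ} (hppd : Ppd p D l) (hD0 : 0 < D) (hD : 2 * m * f < 2 * D) (hl2 : l ≠ 2)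
    {b : MulAut (PSp m F)} (hb : (orderOf b).Prime) (hb2 : orderOf b ≠ 2) {x : PSp m F} (hx : orderOf x = l)
    (hfix : b x = x) :
    ∃ s y : Matrix.symplecticGroup (Fin m) F, orderOf s = orderOf b ∧ b = MulAut.conj (pr m F s) ∧
      orderOf y = l ∧ pr m F y = x ∧ s * y = y * s := by
  have hodd : Odd (orderOf b) := hb.odd_of_ne_two hb2
  rcases inner_or_field hm h22 hodd (pow_orderOf_eq_one b) with ⟨s', hs'⟩ | ⟨g, φ, c, hc, hs, hφ, hg⟩
  swap
  · exfalso
    rw [← hg] at hfix
    exact field_not_fixed' hs hφ hF (by omega) hppd hD0 hD hl2 x hx hfix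
  have hso : orderOf s' = orderOf b := by
    rw [hs']
    exact (orderOf_conj hZ s').symm
  obtain ⟨s, rfl, hs⟩ := exists_lift (by omega) hb hb2 s' hso
  obtain ⟨y, rfl, hy⟩ := exists_lift (by omega) hppd.prime hl2 x hx
  refine ⟨s, y, hs, hs', hy, rfl, ?_⟩
  rw [hs'] at hfix
  exact Quot.comm_of_conj (pr m F) ker_pr.le (coprime_ker (by omega) hppd.prime hl2)
    (by rw [← hy, pow_orderOf_eq_one]) hfix

/-- the centralizer in `PSp` -/
theorem card_cent_pr (s : Matrix.symplecticGroup (Fin m) F) :
    Nat.card (centralizer {pr m F s}) ∣ Nat.card (centralizer {s}) :=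
  card_cent_dvd (pr m F) surj_pr ker_pr.le s

/-- the fixed points of the inner automorphism -/
theorem v_Fx_le {b : MulAut (PSp m F)} {s : Matrix.symplecticGroup (Fin m) F} (hb : b = MulAut.conj (pr m F s))
    (t : ℕ) : v t (Fx b) ≤ v t (centralizer {s}) := by
  rw [hb, Fx_conj]
  exact (Nat.factorization_le_iff_dvd Nat.card_pos.ne' Nat.card_pos.ne').2 (card_cent_pr s) t

/-- **The `p`-part of the fixed points of inner automorphisms.** -/
theorem v_Fx_inner (hm : 2 ≤ m) (hp : p.Prime) (hF : Fintype.card F = p ^ f) {b : MulAut (PSp m F)}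
    {s : Matrix.symplecticGroup (Fin m) F} (hb : b = MulAut.conj (pr m F s)) (hs : (orderOf s).Prime)
    (hs2 : orderOf s ≠ 2) (hsp : orderOf s ≠ p) : v p (Fx b) + 2 * f ≤ m ^ 2 * f := by
  have h1 := v_cent_le hm hp hF (s := s) (N := orderOf s)
    (fun h => hsp ((Nat.prime_dvd_prime_iff_eq hp hs).1 h).symm) (pow_orderOf_eq_one s)
    (not_scalar_of_order (by rintro rfl; rw [orderOf_one] at hs; exact hs.one_lt.ne rfl)
      (hs.odd_of_ne_two hs2) (pow_orderOf_eq_one s) (by omega))
  have h2 := v_Fx_le hb p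
  omega

end Cfsg.Agent.H767.PD
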