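import Cfsg.Agent.H767.PD.Unip
import Cfsg.Agent.H160.PD.One

/-!
# Orders of centralizers in `PSp_2m(q)` (helper767, S4246 row PSp)

* `card_cent_dvd` : `|C(π s)|` divides `|C(s)|` for a central quotient `π`;
* `v_cent_le` : `v_p |C(s)| + 2 f ≤ m² f`.
-/

set_option autoImplicit false
set_option linter.unusedSectionVars false

namespace Cfsg.Agent.H767.PD

open Cfsg Module Matrix Subgroup Cfsg.Agent.H458.SpOp
open Cfsg.Agent.ClassicalGeometry.SympBasic Cfsg.Agent.ClassicalGeometry.SympAutSemi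
open Cfsg.Agent.H160.PD (v)

section Quot

variable {G K : Type*} [Group G] [Group K] [Finite G] (π : G →* K) (hπ : Function.Surjective π)
  (hZ : π.ker ≤ center G)

include hπ hZ in
/-- **Centralizers in a central quotient.** -/
theorem card_cent_dvd (s : G) : Nat.card (centralizer {π s}) ∣ Nat.card (centralizer {s}) := by
  set N := (centralizer {π s}).comap π with hN
  have hker : π.ker ≤ N := by
    intro g hg
    rw [hN, mem_comap, MonoidHom.mem_ker.1 hg]
    exact one_mem _
  have h1 : Nat.card N = Nat.card (centralizer {π s}) * Nat.card π.ker := by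
    have h2 : (N.map π) = centralizer {π s} := map_comap_eq_self_of_surjective hπ _
    have h3 : Nat.card (N.map π) * Nat.card π.ker = Nat.card N := by
      have h4 := card_mul_index (π.ker.subgroupOf N)
      have h5 : (π.ker.subgroupOf N).index = Nat.card (N.map π) := by
        have h6 : π.ker.subgroupOf N = (π.comp N.subtype).ker := by
          ext g
          rw [mem_subgroupOf, MonoidHom.mem_ker, MonoidHom.mem_ker, MonoidHom.comp_apply, Subgroup.subtype_apply]
        rw [h6, Subgroup.index_ker, MonoidHom.range_comp, N.range_subtype]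
      have h7 : Nat.card (π.ker.subgroupOf N) = Nat.card π.ker :=
        Nat.card_congr (subgroupOfEquivOfLe hker).toEquiv
      rw [h5, h7] at h4
      rw [mul_comm]
      exact h4
    rw [h2] at h3
    exact h3.symm
  let φ : N →* π.ker :=
    { toFun := fun g => ⟨(g : G) * s * (g : G)⁻¹ * s⁻¹, by
        rw [MonoidHom.mem_ker, map_mul, map_mul, map_mul, map_inv, map_inv]
        have h2 : π (g : G) ∈ centralizer {π s} := g.2
        rw [mem_centralizer_singleton_iff] at h2
        rw [h2, mul_inv_cancel_right, mul_inv_cancel]⟩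
      map_one' := Subtype.ext (by simp)
      map_mul' := fun g h => by
        apply Subtype.ext
        have h3 : (h : G) * s * (h : G)⁻¹ * s⁻¹ ∈ center G := by
          apply hZ
          rw [MonoidHom.mem_ker, map_mul, map_mul, map_mul, map_inv, map_inv]
          have h2 : π (h : G) ∈ centralizer {π s} := h.2
          rw [mem_centralizer_singleton_iff] at h2
          rw [h2, mul_inv_cancel_right, mul_inv_cancel]
        have h4 := mem_center_iff.1 h3 (g : G)
        change (g : G) * h * s * ((g : G) * h)⁻¹ * s⁻¹ =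
          ((g : G) * s * (g : G)⁻¹ * s⁻¹) * ((h : G) * s * (h : G)⁻¹ * s⁻¹)
        have h5 := mem_center_iff.1 h3 ((g : G) * s * (g : G)⁻¹ * s⁻¹)
        rw [h5]
        calc (g : G) * h * s * ((g : G) * h)⁻¹ * s⁻¹
            = (g : G) * ((h : G) * s * (h : G)⁻¹ * s⁻¹) * (s * (g : G)⁻¹ * s⁻¹) := by group
          _ = ((h : G) * s * (h : G)⁻¹ * s⁻¹) * (g : G) * (s * (g : G)⁻¹ * s⁻¹) := by rw [h4]
          _ = _ := by group }
  have hle : centralizer {s} ≤ N := by
    intro g hg
    rw [hN, mem_comap, mem_centralizer_singleton_iff, ← map_mul, ← map_mul, mem_centralizer_singleton_iff.1 hg]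
  have h2 : φ.ker = (centralizer {s}).subgroupOf N := by
    ext g
    rw [MonoidHom.mem_ker, mem_subgroupOf, mem_centralizer_singleton_iff]
    constructor
    · intro h
      have h3 : (g : G) * s * (g : G)⁻¹ * s⁻¹ = 1 := congrArg Subtype.val h
      rw [mul_inv_eq_one, mul_inv_eq_iff_eq_mul] at h3
      exact h3
    · intro h
      apply Subtype.ext
      change (g : G) * s * (g : G)⁻¹ * s⁻¹ = 1
      rw [mul_inv_eq_one, mul_inv_eq_iff_eq_mul]
      exact h
  have h3 : Nat.card φ.ker = Nat.card (centralizer {s}) := by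
    rw [h2]
    exact Nat.card_congr (subgroupOfEquivOfLe hle).toEquiv
  have h4 : Nat.card N = Nat.card φ.ker * Nat.card φ.range := by
    rw [← card_mul_index φ.ker, Subgroup.index_ker]
  obtain ⟨k, hk⟩ := card_subgroup_dvd_card φ.range
  rw [h1, h3, hk] at h4
  refine ⟨k, ?_⟩
  have h5 : 0 < Nat.card φ.range := Nat.card_pos
  have h6 : Nat.card φ.range * (Nat.card (centralizer {π s}) * k) = Nat.card φ.range * Nat.card (centralizer {s}) := by
    rw [mul_comm (Nat.card φ.range) (Nat.card (centralizer {s})), ← h4]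
    ring
  exact (Nat.eq_of_mul_eq_mul_left h5 h6).symm

end Quot

variable {m : ℕ} {F : Type} [Field F] [Fintype F]

local notation "VV" => (Fin m ⊕ Fin m → F)
local notation "Sp" => Matrix.symplecticGroup (Fin m) F

/-- the `p`-part of `|Sp_2m(q)|` -/
theorem v_sp {p f : ℕ} (hp : p.Prime) (hF : Fintype.card F = p ^ f) : v p Sp = m ^ 2 * f := by
  have hf : f ≠ 0 := by
    rintro rfl
    rw [pow_zero] at hF
    have := Fintype.one_lt_card (α := F)
    omega
  have h1 : ∀ i ∈ Finset.range m, Fintype.card F ^ (2 * (i + 1)) - 1 ≠ 0 := by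
    intro i _
    have : 1 < Fintype.card F ^ (2 * (i + 1)) := Nat.one_lt_pow (by omega) Fintype.one_lt_card
    omega
  rw [v, LieClassical.SympCount.card_symplecticGroup, Nat.factorization_mul (pow_ne_zero _ Fintype.card_pos.ne')
    (Finset.prod_ne_zero_iff.2 h1), Finsupp.add_apply, hF, ← pow_mul, Nat.factorization_pow, Finsupp.smul_apply,
    hp.factorization_self, smul_eq_mul, mul_one]
  have h2 : (∏ i ∈ Finset.range m, ((p ^ f) ^ (2 * (i + 1)) - 1)).factorization p = 0 := by
    apply Nat.factorization_eq_zero_of_not_dvd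
    rw [hp.prime.dvd_finset_prod_iff]
    rintro ⟨i, -, hi⟩
    have h3 : p ∣ (p ^ f) ^ (2 * (i + 1)) := by
      rw [← pow_mul]
      exact dvd_pow_self p (Nat.mul_ne_zero hf (by omega))
    have h4 : 1 ≤ (p ^ f) ^ (2 * (i + 1)) := Nat.one_le_pow _ _ (pow_pos hp.pos _)
    have h5 : (p ^ f) ^ (2 * (i + 1)) = (p ^ f) ^ (2 * (i + 1)) - 1 + 1 := by omega
    rw [h5] at h3
    exact hp.one_lt.ne' (Nat.dvd_one.1 ((Nat.dvd_add_right hi).1 h3))
  rw [h2, add_zero, mul_comm]

theorem charP_of_card {p f : ℕ} (hp : p.Prime) (hF : Fintype.card F = p ^ f) : CharP F p := by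
  obtain ⟨q, hq⟩ := CharP.exists F
  obtain ⟨n, hqp, hn⟩ := FiniteField.card F q
  have : q ∣ p ^ f := by
    rw [← hF, hn]
    exact dvd_pow_self q n.pos.ne'
  have hqp' : q = p := (Nat.prime_dvd_prime_iff_eq hqp hp).1 (hqp.dvd_of_dvd_pow this)
  rwa [← hqp']

/-- a `p`-subgroup of `Sp_2m(q)` has order at most `q ^ m²` -/
theorem card_pgroup_le {p f : ℕ} (hp : p.Prime) (hF : Fintype.card F = p ^ f) {H : Subgroup Sp} (hH : IsPGroup p H) :
    Nat.card H ≤ p ^ (m ^ 2 * f) := by
  haveI : Fact p.Prime := ⟨hp⟩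
  obtain ⟨k, hk⟩ := IsPGroup.iff_card.1 hH
  have h1 : p ^ k ∣ Nat.card Sp := hk ▸ card_subgroup_dvd_card H
  have h2 := (hp.pow_dvd_iff_le_factorization Nat.card_pos.ne').1 h1
  have h3 := v_sp (m := m) hp hF
  rw [v] at h3
  rw [hk]
  exact Nat.pow_le_pow_right hp.pos (by omega)

/-- **The `p`-part of the centralizer of a noncentral `p'`-element.** -/
theorem v_cent_le (hm : 2 ≤ m) {p f : ℕ} (hp : p.Prime) (hF : Fintype.card F = p ^ f) {s : Sp} {N : ℕ}
    (hN : ¬ p ∣ N) (hs : s ^ N = 1) (hs1 : ∀ lam : F, (∀ x, op m F s x = lam • x) → lam ^ 2 ≠ 1) :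
    v p (centralizer {s}) + 2 * f ≤ m ^ 2 * f := by
  classical
  haveI : Fact p.Prime := ⟨hp⟩
  haveI := charP_of_card hp hF
  have hpF : (p : F) = 0 := CharP.cast_eq_zero F p
  obtain ⟨P₀⟩ := (inferInstance : Nonempty (Sylow p (centralizer {s})))
  set P : Subgroup Sp := (P₀ : Subgroup (centralizer {s})).map (centralizer {s}).subtype with hP
  have hPZ : P ≤ centralizer {s} := by
    rw [hP]
    exact map_subtype_le _
  have hPp : IsPGroup p P := P₀.isPGroup'.map _
  have hPc : Nat.card P = p ^ v p (centralizer {s}) := by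
    rw [hP, ← Sylow.card_eq_multiplicity P₀]
    exact (Nat.card_congr ((P₀ : Subgroup (centralizer {s})).equivMapOfInjective _ (subtype_injective _)).toEquiv).symm
  haveI : Nontrivial (Fin m ⊕ Fin m → F) := by
    haveI : Nonempty (Fin m ⊕ Fin m) := ⟨Sum.inl ⟨0, by omega⟩⟩
    infer_instance
  obtain ⟨w, hw0, hw⟩ := Cfsg.Agent.H458.Zs.exists_fixed (k := F) ((op m F).comp P.subtype) hpF hPp
  have hfix : ∀ g ∈ P, op m F g w = w := fun g hg => hw ⟨g, hg⟩
  obtain ⟨t, ht, hinj⟩ := exists_cosets hm hw0 (N := N) (by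
    intro h0
    exact hN ((CharP.cast_eq_zero_iff F p N).1 h0)) hs hs1
  have hH : IsPGroup p (P ⊔ Q w : Subgroup Sp) :=
    hPp.to_sup_of_normal_right' (isPGroup_Q hpF w) (le_normalizer_Q hfix)
  have h1 := card_mul_le (P := P) (Z := centralizer {s}) (H := P ⊔ Q w) hPZ le_sup_left t
    (fun a => (le_sup_right : Q w ≤ P ⊔ Q w) (ht a)) (fun a b h => hinj a b (mem_centralizer_singleton_iff.1 h))
  have h2 := h1.trans (card_pgroup_le hp hF hH)
  rw [hPc, Nat.card_prod, Nat.card_eq_fintype_card, hF, ← pow_add, ← pow_add] at h2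
  have h3 := (Nat.pow_le_pow_iff_right hp.one_lt).1 h2
  omega

/-- the scalar elements of `Sp` -/
theorem not_scalar_of_order {s : Sp} (hs1 : s ≠ 1) {t : ℕ} (ht : Odd t) (hs : s ^ t = 1) (hm : 1 ≤ m) :
    ∀ lam : F, (∀ x, op m F s x = lam • x) → lam ^ 2 ≠ 1 := by
  intro lam hl h2
  apply hs1
  have hp : ∀ n : ℕ, ∀ x, ((op m F s) ^ n) x = lam ^ n • x := by
    intro n
    induction n with
    | zero => intro x; simp
    | succ n ih => intro x; rw [pow_succ', Module.End.mul_apply, ih, map_smul, hl, smul_smul, pow_succ]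
  obtain ⟨k, rfl⟩ := ht
  apply eq_of_op
  intro x
  have h3 := hp (2 * k + 1) x
  rw [← map_pow, hs, map_one, pow_succ, pow_mul, h2, one_pow, one_mul] at h3
  rw [hl, map_one, ← h3]

end Cfsg.Agent.H767.PD
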