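import Cfsg.Agent.H767.PD.Out
import Cfsg.Agent.S2730
import Cfsg.Agent.S2712
import Cfsg.Agent.H999.PslGraphSplit

/-!
# Fixed points of the field automorphisms of `PSp_2m(q)` (helper767, S4246 row PSp)
-/

set_option autoImplicit false
set_option linter.unusedSectionVars false

namespace Cfsg.Agent.H767.PD

open Cfsg Module Matrix Subgroup Cfsg.Agent.H568 Cfsg.Agent.H689 Cfsg.Agent.H458 Cfsg.Agent.H458.Zs
open Cfsg.Agent.H458.SpOp Cfsg.Agent.H458.SpAut
open Cfsg.Agent.ClassicalGeometry.SympBasic Cfsg.Agent.ClassicalGeometry.SympAutSemi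
open Cfsg.Agent.ClassicalGeometry.SympGamma
open Cfsg.Agent.H160.PD (v Fx mem_Fx Uniq out Good)

/-- the `p`-part of `|PGSp_2m(p^a)|` -/
theorem v_pgsp {F : Type} [Field F] [Fintype F] {m : ℕ} (hm : 1 ≤ m) {p a : ℕ} (hp : p.Prime)
    (hF : Fintype.card F = p ^ a) : v p (PGSp m F) ≤ m ^ 2 * a := by
  have hne : Nonempty (Fin m ⊕ Fin m) := ⟨Sum.inl ⟨0, by omega⟩⟩
  have hJ : (J (Fin m) F) ≠ 0 := by
    intro h
    have := (isUnit_det_J (Fin m) F).ne_zero
    rw [h, det_zero] at this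
    exact this rfl
  obtain ⟨d, hd, h3⟩ := Cfsg.Agent.H999.PslGraphSplit.card_proj hJ
  have h4 : Nat.card (PGSp m F) * Nat.card Fˣ = Nat.card ↥(Matrix.symplecticGroup (Fin m) F) * d := by
    rw [← Nat.card_congr (Cfsg.Agent.H999.PslGraphTwo.isoJ (m := m) (F := F)).toEquiv]
    exact h3
  have hu : Nat.card Fˣ ≠ 0 := Nat.card_pos.ne'
  have hd0 : d ≠ 0 := by rintro rfl; exact hu (zero_dvd_iff.1 hd)
  have hpd : ¬ p ∣ d := by
    intro h
    have h5 := h.trans hd
    rw [Nat.card_units, Nat.card_eq_fintype_card, ← pow_one (Fintype.card F)] at h5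
    exact not_dvd_sub hp (card_ne_one hp hF).2 Fintype.card_pos one_ne_zero h5
  have h5 : Nat.card (PGSp m F) ∣ Nat.card ↥(Matrix.symplecticGroup (Fin m) F) * d := ⟨_, h4.symm⟩
  have h6 := v_le_of_dvd (t := p) h5 (mul_ne_zero Nat.card_pos.ne' hd0)
  rw [Nat.factorization_mul Nat.card_pos.ne' hd0, Finsupp.add_apply, Nat.factorization_eq_zero_of_not_dvd hpd,
    add_zero] at h6
  exact h6.trans (v_sp hp hF).le

variable {m : ℕ} {F : Type} [Field F] [Fintype F] {p f : ℕ}

local notation "Sp" => Matrix.symplecticGroup (Fin m) F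

/-- **The `p`-part of the fixed points of the field automorphisms.** -/
theorem v_Fx_field (hZ : center (PSp m F) = ⊥) (hm : 2 ≤ m) (h22 : m = 2 → 3 ≤ Fintype.card F) [hp : Fact p.Prime]
    (hF : Fintype.card F = p ^ f) {b : MulAut (PSp m F)} (hb : (orderOf b).Prime) (hbp : orderOf b ≠ p)
    {g : semiSim m F} {φ : F ≃+* F} {c : F} (hc : c ≠ 0) (hs : IsSemi g.1 φ c) (hφ : φ ≠ RingEquiv.refl F)
    (hg : Psi m F g = b) : v p (Fx b) ≤ m ^ 2 * (f / orderOf b) ∧ orderOf b ≤ f := by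
  obtain ⟨hf, -⟩ := card_ne_one hp.1 hF
  haveI := charP_of_card hp.1 hF
  haveI : Fact (orderOf b).Prime := ⟨hb⟩
  have hnot : ¬ IsInnerDiagonalAutPSp b := by
    intro h
    have h1 : b ∈ inndiagPSp m F := Subgroup.subset_closure h
    obtain ⟨h', ⟨e, he, hh⟩, hb'⟩ := H966.PSpAut.mem_inndiag.1 h1
    obtain ⟨a, ha⟩ := exists_scal_of_Psi_eq_one (by omega : 1 ≤ m) (h'⁻¹ * g)
      (by rw [map_mul, map_inv, hb', hg, inv_mul_cancel])
    have h2 : g = h' * (h'⁻¹ * g) := by rw [mul_inv_cancel_left]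
    have h3 := hh.mul (isSemi_scal (m := m) a)
    have h4 : g.1 = h'.1 * scal m F a := by
      rw [← ha]
      exact congrArg Subtype.val h2
    rw [← h4] at h3
    exact hφ (IsSemi.unique (by omega : 1 ≤ m) hs h3).1
  obtain ⟨σ, α, hσ, hα⟩ := S2730.exists_phi hm h22 hbp b rfl hnot
  have htf : orderOf b ∣ f := by
    rw [← hσ, ← Lib.FieldAutCard.card_ringAut hf hF]
    exact orderOf_dvd_natCard σ
  have hle : orderOf b ≤ f := Nat.le_of_dvd hf htf
  refine ⟨?_, hle⟩
  have hcl : IsFieldAutClassPSp b := by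
    refine ⟨α⁻¹, σ, ?_, ?_⟩
    · rintro rfl
      have : orderOf (RingEquiv.refl F) = 1 := orderOf_one
      rw [this] at hσ
      exact hb.one_lt.ne hσ
    · have h1 : α⁻¹ * b * α⁻¹⁻¹ = H206.PspFix.phi m F σ := by
        rw [inv_inv]
        nth_rw 1 [hα]
        group
      rw [h1]
      exact H966.PSpAut.eq_Psi_frob.2 rfl
  have hft : f / orderOf b ≠ 0 := (Nat.div_pos hle hb.pos).ne'
  letI : Fintype (GaloisField p (f / orderOf b)) := Fintype.ofFinite _
  have hcard : Fintype.card (GaloisField p (f / orderOf b)) = p ^ (f / orderOf b) := by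
    rw [← Nat.card_eq_fintype_card]
    exact GaloisField.card p _ hft
  obtain ⟨-, ⟨iso⟩, -⟩ := S2712.result hF hf hm h22 b hcl hb rfl (GaloisField p (f / orderOf b)) hcard
  refine le_trans ?_ (v_pgsp (by omega : 1 ≤ m) hp.1 hcard)
  have hinn : ∀ s : PSp m F, MulAut.conj s ∈ inndiagPSp m F := by
    intro s
    obtain ⟨A, rfl⟩ := surj_pr (m := m) (F := F) s
    have hr : rho m F A ∈ semiSim m F := ⟨RingEquiv.refl F, 1, one_ne_zero, isSemi_rho A⟩
    exact H966.PSpAut.mem_inndiag.2 ⟨⟨rho m F A, hr⟩, ⟨1, one_ne_zero, isSemi_rho A⟩, H966.PSpAut.Psi_rho A hr⟩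
  let θ : Fx b →* ↥(inndiagPSp m F ⊓ centralizer {b}) :=
    { toFun := fun s => ⟨MulAut.conj (s : PSp m F), hinn s, by
        change _ ∈ centralizer _
        rw [mem_centralizer_singleton_iff]
        have h1 := H160.PD.mul_conj_mul_inv b (s : PSp m F)
        rw [s.2, mul_inv_eq_iff_eq_mul] at h1
        exact h1.symm⟩
      map_one' := Subtype.ext (map_one _)
      map_mul' := fun s t => Subtype.ext (map_mul _ _ _) }
  have hθ : Function.Injective θ := by
    intro s t h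
    exact Subtype.ext (H160.PD.conj_injective hZ (congrArg Subtype.val h))
  have hfin : Finite (PGSp m (GaloisField p (f / orderOf b))) := Finite.of_equiv _ iso.toEquiv
  refine v_le_of_dvd ?_ Nat.card_pos.ne'
  rw [← Nat.card_congr iso.toEquiv]
  exact card_dvd_of_injective θ hθ

end Cfsg.Agent.H767.PD
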