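import Cfsg.Agent.H767.PD.Orders

/-!
# `Uniq`, normalizers for `PSp_2m(q)` (helper767, S4246 row PSp)
-/

set_option autoImplicit false
set_option linter.unusedSectionVars false

namespace Cfsg.Agent.H767.PD

open Cfsg Module Matrix Subgroup Cfsg.Agent.H568 Cfsg.Agent.H689 Cfsg.Agent.H458 Cfsg.Agent.H458.Zs
open Cfsg.Agent.H458.SpOp Cfsg.Agent.H458.SpAut
open Cfsg.Agent.ClassicalGeometry.SympBasic Cfsg.Agent.ClassicalGeometry.SympAutSemi
open Cfsg.Agent.H160.PD (v Fx mem_Fx Uniq mem_zpowers_of_cyclic uniq_of_cyclic card_normalizer_dvd)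

/-- elements of order `l` in an extension of an `l'`-group by a cyclic group -/
theorem mem_zpowers_of_struct {Γ : Type*} [Group Γ] [Finite Γ] {K : Subgroup Γ} [K.Normal] (hc : IsCyclic (Γ ⧸ K))
    {l : ℕ} (hl : l.Prime) (hK : ¬ l ∣ Nat.card K) {x y : Γ} (hx : orderOf x = l) (hy : orderOf y = l)
    (hxy : x * y = y * x) : y ∈ zpowers x := by
  have hord : ∀ z : Γ, orderOf z = l → orderOf (QuotientGroup.mk' K z) = l := by
    intro z hz
    have := Fact.mk hl
    apply orderOf_eq_prime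
    · rw [← map_pow, ← hz, pow_orderOf_eq_one, map_one]
    · intro h1
      have h2 : z ∈ K := (QuotientGroup.eq_one_iff z).1 h1
      apply hK
      rw [← hz, ← Subgroup.orderOf_mk z h2]
      exact orderOf_dvd_natCard _
  obtain ⟨k, hk⟩ := mem_zpowers_of_cyclic ((hord x hx).trans (hord y hy).symm)
  have hk' : QuotientGroup.mk' K x ^ k = QuotientGroup.mk' K y := hk
  have h3 : x ^ (-k) * y ∈ K := by
    rw [← QuotientGroup.eq_one_iff]
    change QuotientGroup.mk' K (x ^ (-k) * y) = 1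
    rw [map_mul, map_zpow, _root_.zpow_neg, hk', inv_mul_cancel]
  have h4 : (x ^ (-k) * y) ^ l = 1 := by
    have hc : Commute (x ^ (-k)) y := (show Commute x y from hxy).zpow_left _
    rw [hc.mul_pow, ← zpow_natCast, ← _root_.zpow_mul, mul_comm, _root_.zpow_mul, zpow_natCast, ← hy, pow_orderOf_eq_one, hy,
      ← hx, pow_orderOf_eq_one, _root_.one_zpow, one_mul]
  have h5 : x ^ (-k) * y = 1 := by
    rw [← orderOf_eq_one_iff, ← Nat.dvd_one]
    have hco : l.Coprime (Nat.card K) := (hl.coprime_iff_not_dvd).2 hK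
    rw [← hco.gcd_eq_one]
    refine Nat.dvd_gcd (orderOf_dvd_of_pow_eq_one h4) ?_
    rw [← Subgroup.orderOf_mk _ h3]
    exact orderOf_dvd_natCard _
  refine ⟨k, ?_⟩
  rw [_root_.zpow_neg, inv_mul_eq_one] at h5
  exact h5

variable {m : ℕ} {F : Type} [Field F] [Fintype F]

local notation "Sp" => Matrix.symplecticGroup (Fin m) F

theorem uniq_pr (hm : 1 ≤ m) {l : ℕ} (hl : l.Prime) (hl2 : l ≠ 2) (h : Uniq Sp l) : Uniq (PSp m F) l := by
  intro x y hx hy hxy
  obtain ⟨x, rfl, hx'⟩ := exists_lift hm hl hl2 x hx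
  obtain ⟨y, rfl, hy'⟩ := exists_lift hm hl hl2 y hy
  have h1 : x * y = y * x := Quot.comm_of_conj (pr m F) ker_pr.le (coprime_ker hm hl hl2)
    (by rw [← hy', pow_orderOf_eq_one]) (by rw [MulAut.conj_apply, hxy, mul_inv_cancel_right])
  obtain ⟨k, hk⟩ := h x y hx' hy' h1
  refine ⟨k, ?_⟩
  change (pr m F x) ^ k = _
  rw [← map_zpow]
  exact congrArg _ hk

theorem uniq_zero (hm : 2 ≤ m) {l : ℕ} (hppd : Ppd (Fintype.card F) (2 * m) l) : Uniq (PSp m F) l := by
  have := hppd.le (by omega)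
  exact uniq_pr (by omega) hppd.prime (by omega) (uniq_of_cyclic fun x hx => isCyclic_cent hx hppd (by omega))

theorem not_dvd_gl {q l k : ℕ} (hq : 1 ≤ q) (hppd : Ppd q k l) (hk : 3 ≤ k) : ¬ l ∣ (q ^ 2 - 1) * (q ^ 2 - q) := by
  intro h
  rcases hppd.prime.dvd_mul.1 h with h1 | h1
  · rw [hppd.iff] at h1
    have := Nat.le_of_dvd (by omega) h1
    omega
  · have h2 : q ^ 2 - q = q * (q ^ 1 - 1) := by rw [Nat.mul_sub, pow_one, mul_one, sq]
    rw [h2] at h1
    rcases hppd.prime.dvd_mul.1 h1 with h3 | h3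
    · exact hppd.not_dvd h3
    · rw [hppd.iff] at h3
      have := Nat.le_of_dvd (by omega) h3
      omega

theorem uniq_one (hm : 3 ≤ m) {l : ℕ} (hppd : Ppd (Fintype.card F) (2 * (m - 1)) l) : Uniq (PSp m F) l := by
  have := hppd.le (by omega)
  refine uniq_pr (by omega) hppd.prime (by omega) ?_
  intro x y hx hy hxy
  obtain ⟨K, hK, hc, -, h2⟩ := cent_one hx hppd hm
  have hxc : x ∈ centralizer ({x} : Set Sp) := mem_centralizer_singleton_iff.2 rfl
  have hyc : y ∈ centralizer ({x} : Set Sp) := mem_centralizer_singleton_iff.2 hxy.symm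
  have h3 : (⟨y, hyc⟩ : centralizer ({x} : Set Sp)) ∈ zpowers (⟨x, hxc⟩ : centralizer ({x} : Set Sp)) := by
    refine mem_zpowers_of_struct hc hppd.prime ?_ ?_ ?_ (Subtype.ext hxy)
    · intro h
      exact not_dvd_gl Fintype.card_pos hppd (by omega) (h.trans h2)
    · rw [Subgroup.orderOf_mk, hx]
    · rw [Subgroup.orderOf_mk, hy]
  obtain ⟨k, hk⟩ := h3
  exact ⟨k, congrArg Subtype.val hk⟩

/-- **The normalizer of `⟨x⟩` in `PSp`.** -/
theorem norm_pr (hm : 1 ≤ m) {l D : ℕ} (hppd : Ppd (Fintype.card F) D l) (hD0 : 0 < D) (hD : 2 * m < 2 * D)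
    (hl2 : l ≠ 2) {x : PSp m F} (hx : orderOf x = l) :
    ∀ z ∈ normalizer ((zpowers x : Subgroup (PSp m F)) : Set (PSp m F)),
      z ^ D ∈ centralizer ({x} : Set (PSp m F)) := by
  intro z hz
  obtain ⟨y, rfl, hy⟩ := exists_lift hm hppd.prime hl2 x hx
  obtain ⟨g, rfl⟩ := surj_pr (m := m) (F := F) z
  have h1 : pr m F g * pr m F y * (pr m F g)⁻¹ ∈ zpowers (pr m F y) := (mem_normalizer_iff.1 hz _).1 (mem_zpowers _)
  rw [← mem_powers_iff_mem_zpowers] at h1
  obtain ⟨j, hj⟩ := h1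
  have hyl : y ^ l = 1 := by rw [← hy, pow_orderOf_eq_one]
  have h2 : g * y * g⁻¹ = y ^ j := by
    refine Quot.eq_of_map_eq (pr m F) ker_pr.le (coprime_ker hm hppd.prime hl2) (l := l) ?_ ?_ ?_
    · rw [conj_pow, hyl, mul_one, mul_inv_cancel]
    · rw [← pow_mul, mul_comm, pow_mul, hyl, one_pow]
    · rw [map_mul, map_mul, map_inv, map_pow]
      exact hj.symm
  rw [mem_centralizer_singleton_iff, ← map_pow, ← map_mul, ← map_mul, norm_comm hy hppd hD0 hD h2]

theorem card_norm_pr (hm : 1 ≤ m) {l D : ℕ} (hppd : Ppd (Fintype.card F) D l) (hD0 : 0 < D) (hD : 2 * m < 2 * D)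
    (hl2 : l ≠ 2) {x : PSp m F} (hx : orderOf x = l) :
    Nat.card ↥(normalizer ((zpowers x : Subgroup (PSp m F)) : Set (PSp m F))) ∣
      Nat.card ↥(centralizer ({x} : Set (PSp m F))) * D :=
  card_normalizer_dvd hppd.prime hx (norm_pr hm hppd hD0 hD hl2 hx)

/-- centralizers in `PSp`, `D = 2 m` -/
theorem cent_zero_pr (hm : 2 ≤ m) {l : ℕ} (hppd : Ppd (Fintype.card F) (2 * m) l) {x : PSp m F}
    (hx : orderOf x = l) : Nat.card ↥(centralizer ({x} : Set (PSp m F))) ∣ Fintype.card F ^ m + 1 := by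
  have := hppd.le (by omega)
  obtain ⟨y, rfl, hy⟩ := exists_lift (by omega) hppd.prime (by omega) x hx
  exact (card_cent_pr y).trans (card_cent_zero hy hppd (by omega))

/-- centralizers in `PSp`, `D = 2 (m - 1)` -/
theorem cent_one_pr (hm : 3 ≤ m) {l : ℕ} (hppd : Ppd (Fintype.card F) (2 * (m - 1)) l) {x : PSp m F}
    (hx : orderOf x = l) : Nat.card ↥(centralizer ({x} : Set (PSp m F))) ∣ (Fintype.card F ^ (m - 1) + 1) *
      ((Fintype.card F ^ 2 - 1) * (Fintype.card F ^ 2 - Fintype.card F)) := by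
  have := hppd.le (by omega)
  obtain ⟨y, rfl, hy⟩ := exists_lift (by omega) hppd.prime (by omega) x hx
  exact (card_cent_pr y).trans (card_cent_one hy hppd hm)

theorem dvd_sub_of_dvd_add {q l k : ℕ} (h : l ∣ q ^ k + 1) : l ∣ q ^ (2 * k) - 1 := by
  have h2 : q ^ (2 * k) - 1 = (q ^ k + 1) * (q ^ k - 1) := by
    rw [mul_comm 2 k, pow_mul]
    have := Nat.sq_sub_sq (q ^ k) 1
    rw [one_pow] at this
    exact this
  rw [h2]
  exact Dvd.dvd.mul_right h _

/-- **`NoOdd`.** -/
theorem noOdd (hm : 3 ≤ m) {r₀ r₁ : ℕ} (h0 : Ppd (Fintype.card F) (2 * m) r₀)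
    (h1 : Ppd (Fintype.card F) (2 * (m - 1)) r₁) : H160.PD.NoOdd (PSp m F) r₀ r₁ := by
  have hle0 := h0.le (by omega)
  have hle1 := h1.le (by omega)
  have hq : 1 ≤ Fintype.card F := Fintype.card_pos
  have hnd : ¬ 2 * (m - 1) ∣ 2 * m := by
    intro h
    have h2 := Nat.dvd_of_mul_dvd_mul_left (by norm_num) h
    have h3 := (Nat.dvd_sub h2 (dvd_refl (m - 1)))
    have h4 : m - (m - 1) = 1 := by omega
    rw [h4, Nat.dvd_one] at h3
    omega
  have hne : r₀ ≠ r₁ := by
    rintro rfl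
    have h2 := (h0.iff _).2 dvd_rfl
    rw [h1.iff] at h2
    exact hnd h2
  refine H160.PD.noOdd_of_uniq h0.prime h1.prime hne (uniq_zero (by omega) h0) (uniq_one hm h1) ?_ ?_
  · intro x hx hd
    have h2 := (hd.trans (card_norm_pr (by omega) h0 (by omega) (by omega) (by omega) hx)).trans
      (Nat.mul_dvd_mul_right (cent_zero_pr (by omega) h0 hx) _)
    rcases h1.prime.dvd_mul.1 h2 with h3 | h3
    · have h4 := dvd_sub_of_dvd_add h3
      rw [h1.iff] at h4
      exact hnd h4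
    · rcases h1.prime.dvd_mul.1 h3 with h4 | h4
      · have := Nat.le_of_dvd (by norm_num) h4
        omega
      · have := Nat.le_of_dvd (by omega) h4
        omega
  · intro x hx hd
    have h2 := (hd.trans (card_norm_pr (by omega) h1 (by omega) (by omega) (by omega) hx)).trans
      (Nat.mul_dvd_mul_right (cent_one_pr hm h1 hx) _)
    rcases h0.prime.dvd_mul.1 h2 with h3 | h3
    · rcases h0.prime.dvd_mul.1 h3 with h4 | h4
      · have h5 := dvd_sub_of_dvd_add h4
        rw [h0.iff] at h5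
        have := Nat.le_of_dvd (by omega) h5
        omega
      · exact not_dvd_gl hq h0 (by omega) h4
    · have := Nat.le_of_dvd (by omega) h3
      omega

/-! ### the characteristic -/

variable {p f : ℕ}

theorem not_dvd_add {q k : ℕ} (hp : p.Prime) (hq : p ∣ q) (hk : k ≠ 0) : ¬ p ∣ q ^ k + 1 := by
  intro h
  exact hp.one_lt.ne' (Nat.dvd_one.1 ((Nat.dvd_add_right (hq.trans (dvd_pow_self q hk))).1 h))

theorem not_dvd_sub {q k : ℕ} (hp : p.Prime) (hq : p ∣ q) (hq0 : 0 < q) (hk : k ≠ 0) : ¬ p ∣ q ^ k - 1 := by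
  intro h
  have h1 : 1 ≤ q ^ k := Nat.one_le_pow _ _ hq0
  exact hp.one_lt.ne' (Nat.dvd_one.1 ((Nat.dvd_sub_iff_right h1 (hq.trans (dvd_pow_self q hk))).1 h))

theorem card_ne_one (hp : p.Prime) (hF : Fintype.card F = p ^ f) : 1 ≤ f ∧ p ∣ Fintype.card F := by
  have h1 := Fintype.one_lt_card (α := F)
  have h2 : 1 ≤ f := by
    rcases Nat.eq_zero_or_pos f with h0 | h0
    · rw [hF, h0, pow_zero] at h1
      omega
    · exact h0
  exact ⟨h2, hF ▸ dvd_pow_self p (by omega)⟩

theorem v_le_of_dvd {X : Type*} [Finite X] [Nonempty X] {t N : ℕ} (h : Nat.card X ∣ N) (hN : N ≠ 0) :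
    v t X ≤ N.factorization t :=
  (Nat.factorization_le_iff_dvd Nat.card_pos.ne' hN).2 h t

theorem v_cent_zero (hm : 2 ≤ m) (hp : p.Prime) (hF : Fintype.card F = p ^ f) {l : ℕ}
    (hppd : Ppd (Fintype.card F) (2 * m) l) {x : PSp m F} (hx : orderOf x = l) :
    v p (centralizer ({x} : Set (PSp m F))) = 0 := by
  apply Nat.factorization_eq_zero_of_not_dvd
  intro h
  exact not_dvd_add hp (card_ne_one hp hF).2 (by omega) (h.trans (cent_zero_pr hm hppd hx))

theorem gl_factorization (hp : p.Prime) (hf : 1 ≤ f) :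
    (((p ^ f) ^ 2 - 1) * ((p ^ f) ^ 2 - p ^ f)).factorization p = f := by
  have hq : 1 < p ^ f := Nat.one_lt_pow (by omega) hp.one_lt
  have hpq : p ∣ p ^ f := dvd_pow_self p (by omega)
  have h1 : (p ^ f) ^ 2 - p ^ f = p ^ f * ((p ^ f) ^ 1 - 1) := by rw [Nat.mul_sub, pow_one, mul_one, sq]
  have h2 : (p ^ f) ^ 2 - 1 ≠ 0 := by
    have := Nat.one_lt_pow (n := 2) (by norm_num) hq
    omega
  have h3 : (p ^ f) ^ 1 - 1 ≠ 0 := by rw [pow_one]; omega
  rw [h1, Nat.factorization_mul h2 (mul_ne_zero (by omega) h3), Nat.factorization_mul (by omega) h3,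
    Finsupp.add_apply, Finsupp.add_apply, Nat.factorization_eq_zero_of_not_dvd (not_dvd_sub hp hpq (by omega) (by norm_num)),
    Nat.factorization_eq_zero_of_not_dvd (not_dvd_sub hp hpq (by omega) one_ne_zero), hp.factorization_pow,
    Finsupp.single_eq_same]
  omega

theorem cent_one_ne (hm : 3 ≤ m) : (Fintype.card F ^ (m - 1) + 1) *
      ((Fintype.card F ^ 2 - 1) * (Fintype.card F ^ 2 - Fintype.card F)) ≠ 0 := by
  have hq : 1 < Fintype.card F := Fintype.one_lt_card
  have h2 : Fintype.card F ^ 2 - 1 ≠ 0 := by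
    have := Nat.one_lt_pow (n := 2) (by norm_num) hq
    omega
  have h3 : Fintype.card F ^ 2 - Fintype.card F ≠ 0 := by
    have : Fintype.card F * 1 < Fintype.card F * Fintype.card F := Nat.mul_lt_mul_of_pos_left hq (by omega)
    rw [sq]
    omega
  exact mul_ne_zero (by omega) (mul_ne_zero h2 h3)

theorem cent_one_factorization (hm : 3 ≤ m) (hp : p.Prime) (hF : Fintype.card F = p ^ f) :
    ((Fintype.card F ^ (m - 1) + 1) *
      ((Fintype.card F ^ 2 - 1) * (Fintype.card F ^ 2 - Fintype.card F))).factorization p = f := by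
  have h1 := cent_one_ne (F := F) hm
  obtain ⟨hf, hpq⟩ := card_ne_one hp hF
  rw [Nat.factorization_mul (left_ne_zero_of_mul h1) (right_ne_zero_of_mul h1), Finsupp.add_apply,
    Nat.factorization_eq_zero_of_not_dvd (not_dvd_add hp hpq (by omega)), hF, gl_factorization hp hf, zero_add]

theorem v_cent_one (hm : 3 ≤ m) (hp : p.Prime) (hF : Fintype.card F = p ^ f) {l : ℕ}
    (hppd : Ppd (Fintype.card F) (2 * (m - 1)) l) {x : PSp m F} (hx : orderOf x = l) :
    v p (centralizer ({x} : Set (PSp m F))) ≤ f := by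
  rw [← cent_one_factorization (F := F) hm hp hF]
  exact v_le_of_dvd (cent_one_pr hm hppd hx) (cent_one_ne hm)

/-- **Subgroups of odd order with elements of order `r₀`.** -/
theorem odd_zero (hm : 2 ≤ m) [hp : Fact p.Prime] (hF : Fintype.card F = p ^ f) {l : ℕ}
    (hppd : Ppd (Fintype.card F) (2 * m) l) (H : Subgroup (PSp m F)) (hH : Odd (Nat.card H))
    (hl : l ∣ Nat.card H) : v p H ≤ (2 * m).factorization p := by
  have hle := hppd.le (by omega)
  obtain ⟨hf, hpq⟩ := card_ne_one hp.1 hF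
  have hpl : p ≠ l := by
    rintro rfl
    exact hppd.not_dvd hpq
  have hpF : (p : F) = 0 := by
    have := charP_of_card hp.1 hF
    exact CharP.cast_eq_zero F p
  rw [← zero_add ((2 * m).factorization p)]
  refine H160.PD.odd_bound_of_uniq hp.1 hppd.prime hpl (uniq_zero hm hppd) ?_ ?_ H hH hl
  · intro X hX x hx hxo
    obtain ⟨y, rfl, hy⟩ := exists_lift (by omega) hppd.prime (by omega) x hxo
    have h1 : PCent p (pr m F y) := Quot.pcent (pr m F) surj_pr ker_pr.le (pcent_char hy hppd (by omega) hpF)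
    have h2 : X ≤ centralizer ({pr m F y} : Set (PSp m F)) := by
      intro g hg
      rw [mem_centralizer_singleton_iff]
      exact (h1 X hX hx g hg).symm
    have h3 := H160.PD.v_mono h2 p
    rw [v_cent_zero hm hp.1 hF hppd hxo] at h3
    exact h3
  · intro x hx
    have h1 := (card_norm_pr (by omega) hppd (by omega) (by omega) (by omega) hx).trans
      (Nat.mul_dvd_mul_right (cent_zero_pr hm hppd hx) _)
    refine (v_le_of_dvd h1 (mul_ne_zero (by omega) (by omega))).trans ?_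
    rw [Nat.factorization_mul (by omega) (by omega), Finsupp.add_apply,
      Nat.factorization_eq_zero_of_not_dvd (not_dvd_add hp.1 hpq (by omega)), zero_add]

end Cfsg.Agent.H767.PD
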