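import Cfsg.Agent.H767.PD.Out

/-!
# The numerical hypothesis of the criterion (helper767, S4246 row PSp)
-/

set_option autoImplicit false
set_option linter.unusedSectionVars false

namespace Cfsg.Agent.H767.PD

open Cfsg Module Matrix Subgroup Cfsg.Agent.H568 Cfsg.Agent.H689 Cfsg.Agent.H458 Cfsg.Agent.H458.Zs
open Cfsg.Agent.H458.SpOp Cfsg.Agent.H458.SpAut
open Cfsg.Agent.H160.PD (v Fx mem_Fx Uniq out Good)

theorem two_ne {t : ℕ} (ht : t.Prime) (ht2 : t ≠ 2) : (2 : ZMod t) ≠ 0 := by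
  intro h3
  have h4 : ((2 : ℕ) : ZMod t) = 0 := by exact_mod_cast h3
  rw [CharP.cast_eq_zero_iff (ZMod t) t, Nat.prime_dvd_prime_iff_eq ht Nat.prime_two] at h4
  exact ht2 h4

theorem dvd_iff {q t : ℕ} (hq : 0 < q) (j : ℕ) : t ∣ q ^ j - 1 ↔ (q : ZMod t) ^ j = 1 := by
  rw [← CharP.cast_eq_zero_iff (ZMod t) t, Nat.cast_sub (Nat.one_le_pow _ _ hq), Nat.cast_pow, Nat.cast_one,
    sub_eq_zero]

theorem dvd_iff' {q t : ℕ} (j : ℕ) : t ∣ q ^ j + 1 ↔ (q : ZMod t) ^ j = -1 := by
  rw [← CharP.cast_eq_zero_iff (ZMod t) t, Nat.cast_add, Nat.cast_pow, Nat.cast_one, eq_neg_iff_add_eq_zero]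

/-- a prime divisor of `q ^ n + 1` which is not primitive for `2 n` -/
theorem exists_lt {q n t : ℕ} (hq : 0 < q) (ht : t.Prime) (ht2 : t ≠ 2) (hn : 1 ≤ n) (h : t ∣ q ^ n + 1)
    (hp : ¬ Ppd q (2 * n) t) : ∃ g, 1 ≤ g ∧ g < n ∧ t ∣ q ^ (2 * g) - 1 := by
  haveI := Fact.mk ht
  have h1 : (q : ZMod t) ^ n = -1 := (dvd_iff' n).1 h
  have h2 : (q : ZMod t) ^ (2 * n) = 1 := by rw [mul_comm, pow_mul, h1]; ring
  obtain ⟨d, hd⟩ : ∃ d, d = orderOf (q : ZMod t) := ⟨_, rfl⟩
  have hd1 : d ∣ 2 * n := hd ▸ orderOf_dvd_of_pow_eq_one h2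
  have hd0 : 0 < d := Nat.pos_of_dvd_of_pos hd1 (by omega)
  have hdn : ¬ d ∣ n := by
    intro h3
    rw [hd, orderOf_dvd_iff_pow_eq_one, h1] at h3
    apply two_ne ht ht2
    linear_combination (-1 : ZMod t) * h3
  have hd2 : d ≠ 2 * n := by
    intro h3
    apply hp
    refine ppd_of ht (by omega) ((dvd_iff hq _).2 h2) hq ?_
    intro j hj0 hj h4
    rw [dvd_iff hq, ← orderOf_dvd_iff_pow_eq_one, ← hd] at h4
    have := Nat.le_of_dvd hj0 h4
    omega
  have hdle : d < n := by
    obtain ⟨c, hc⟩ := hd1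
    have hc2 : 2 ≤ c := by
      rcases Nat.lt_or_ge c 2 with h4 | h4
      · interval_cases c
        · omega
        · omega
      · exact h4
    have h5 : d * 2 ≤ d * c := Nat.mul_le_mul_left d hc2
    have h6 : d ≤ n := by omega
    rcases Nat.lt_or_ge d n with h7 | h7
    · exact h7
    · exact absurd (by rw [show d = n by omega]) hdn
  refine ⟨d, hd0, hdle, ?_⟩
  rw [dvd_iff hq, mul_comm, pow_mul, hd, pow_orderOf_eq_one, one_pow]

theorem pow_sub_dvd (q a b : ℕ) : q ^ a - 1 ∣ q ^ (a * b) - 1 := by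
  rw [pow_mul]
  have := Nat.sub_dvd_pow_sub_pow (q ^ a) 1 b
  rwa [one_pow] at this

theorem fact_le {a b t : ℕ} (h : a ∣ b) (hb : b ≠ 0) : a.factorization t ≤ b.factorization t := by
  have ha : a ≠ 0 := by rintro rfl; exact hb (zero_dvd_iff.1 h)
  exact (Nat.factorization_le_iff_dvd ha hb).2 h t

theorem fact_pos {a t : ℕ} (h : 0 < a.factorization t) : t ∣ a := by
  by_contra h1
  rw [Nat.factorization_eq_zero_of_not_dvd h1] at h
  omega

/-- **The inequality.** -/
theorem num_ineq {p f m t : ℕ} (hp : p.Prime) (hf : 1 ≤ f) (hm : 3 ≤ m) (ht : t.Prime) (ht2 : t ≠ 2)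
    (h0 : ¬ Ppd (p ^ f) (2 * m) t) (h1 : ¬ Ppd (p ^ f) (2 * (m - 1)) t)
    (hS : 0 < ∑ i ∈ Finset.range m, ((p ^ f) ^ (2 * (i + 1)) - 1).factorization t) :
    ((p ^ f) ^ m + 1).factorization t + (((p ^ f) ^ (m - 1) + 1) *
      (((p ^ f) ^ 2 - 1) * ((p ^ f) ^ 2 - p ^ f))).factorization t + f.factorization t <
      ∑ i ∈ Finset.range m, ((p ^ f) ^ (2 * (i + 1)) - 1).factorization t + (p ^ f).factorization t := by
  set q := p ^ f with hq
  have hq1 : 1 < q := Nat.one_lt_pow (by omega) hp.one_lt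
  have hne : ∀ j, 1 ≤ j → q ^ j - 1 ≠ 0 := by
    intro j hj
    have : 1 < q ^ j := Nat.one_lt_pow (by omega) hq1
    omega
  obtain ⟨w, hw⟩ : ∃ w : ℕ → ℕ, ∀ i, w i = (q ^ (2 * (i + 1)) - 1).factorization t := ⟨_, fun _ => rfl⟩
  simp only [← hw] at hS ⊢
  have hlte : ∀ j, 1 ≤ j → t ∣ q ^ (2 * j) - 1 → 1 + f.factorization t ≤ w (j - 1) := by
    intro j hj hd
    rw [hw, Nat.sub_add_cancel hj]
    exact lte hp.one_lt ht hf (by omega) hd
  have h2 : q ^ 2 - q = q * (q ^ 1 - 1) := by rw [Nat.mul_sub, pow_one, mul_one, sq]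
  have h3 : ((q ^ (m - 1) + 1) * ((q ^ 2 - 1) * (q ^ 2 - q))).factorization t =
      (q ^ (m - 1) + 1).factorization t + w 0 + q.factorization t + (q ^ 1 - 1).factorization t := by
    rw [h2, Nat.factorization_mul (by omega) (mul_ne_zero (hne 2 (by norm_num)) (mul_ne_zero (by omega)
      (hne 1 le_rfl))), Nat.factorization_mul (hne 2 (by norm_num)) (mul_ne_zero (by omega) (hne 1 le_rfl)),
      Nat.factorization_mul (by omega) (hne 1 le_rfl), hw]
    simp only [Finsupp.add_apply, zero_add, mul_one]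
    ring
  rw [h3]
  obtain ⟨A, hA⟩ : ∃ A, A = (q ^ m + 1).factorization t := ⟨_, rfl⟩
  obtain ⟨B, hB⟩ : ∃ B, B = (q ^ (m - 1) + 1).factorization t := ⟨_, rfl⟩
  obtain ⟨c, hc⟩ : ∃ c, c = (q ^ 1 - 1).factorization t := ⟨_, rfl⟩
  rw [← hA, ← hB, ← hc]
  have hAw : A ≤ w (m - 1) := by
    rw [hA, hw, Nat.sub_add_cancel (by omega)]
    refine fact_le ?_ (hne _ (by omega))
    have : q ^ (2 * m) - 1 = (q ^ m + 1) * (q ^ m - 1) := by
      rw [mul_comm 2 m, pow_mul]
      have := Nat.sq_sub_sq (q ^ m) 1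
      rw [one_pow] at this
      exact this
    rw [this]
    exact dvd_mul_right _ _
  have hBw : B ≤ w (m - 2) := by
    rw [hB, hw, show m - 2 + 1 = m - 1 by omega]
    refine fact_le ?_ (hne _ (by omega))
    have : q ^ (2 * (m - 1)) - 1 = (q ^ (m - 1) + 1) * (q ^ (m - 1) - 1) := by
      rw [mul_comm 2 (m - 1), pow_mul]
      have := Nat.sq_sub_sq (q ^ (m - 1)) 1
      rw [one_pow] at this
      exact this
    rw [this]
    exact dvd_mul_right _ _
  have hw0 : ∀ i, w 0 ≤ w i := by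
    intro i
    rw [hw, hw]
    exact fact_le (pow_sub_dvd q 2 (i + 1)) (hne _ (by omega))
  have hsum3 : w 0 + w (m - 2) + w (m - 1) ≤ ∑ i ∈ Finset.range m, w i := by
    have h4 : ({0, m - 2, m - 1} : Finset ℕ) ⊆ Finset.range m := by
      intro i hi
      simp only [Finset.mem_insert, Finset.mem_singleton] at hi
      rw [Finset.mem_range]
      omega
    have h5 := Finset.sum_le_sum_of_subset (f := w) h4
    rw [Finset.sum_insert (by simp only [Finset.mem_insert, Finset.mem_singleton]; omega),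
      Finset.sum_insert (by simp only [Finset.mem_singleton]; omega), Finset.sum_singleton] at h5
    omega
  have hsum2 : ∀ i j, i < j → j < m → w i + w j ≤ ∑ i ∈ Finset.range m, w i := by
    intro i j hij hj
    have h4 : ({i, j} : Finset ℕ) ⊆ Finset.range m := by
      intro k hi
      simp only [Finset.mem_insert, Finset.mem_singleton] at hi
      rw [Finset.mem_range]
      omega
    have h5 := Finset.sum_le_sum_of_subset (f := w) h4
    rw [Finset.sum_insert (by simp only [Finset.mem_singleton]; omega), Finset.sum_singleton] at h5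
    omega
  haveI := Fact.mk ht
  have hAB : A = 0 ∨ B = 0 := by
    by_contra hcon
    push Not at hcon
    have h4 := fact_pos (t := t) (a := q ^ m + 1) (by omega)
    have h5 := fact_pos (t := t) (a := q ^ (m - 1) + 1) (by omega)
    rw [dvd_iff'] at h4 h5
    have h6 : (q : ZMod t) ^ m = (q : ZMod t) ^ (m - 1) * q := by rw [← pow_succ, Nat.sub_add_cancel (by omega)]
    rw [h5, h4] at h6
    have h7 : (q : ZMod t) = 1 := by linear_combination h6
    rw [h7, one_pow] at h5
    apply two_ne ht ht2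
    linear_combination h5
  by_cases hq1' : t ∣ q ^ 1 - 1
  · -- `t ∣ q - 1`
    have h4 : (q : ZMod t) = 1 := by
      have := (dvd_iff (by omega) 1).1 hq1'
      rwa [pow_one] at this
    have hA0 : A = 0 := by
      by_contra hcon
      have h5 := fact_pos (t := t) (a := q ^ m + 1) (by omega)
      rw [dvd_iff', h4, one_pow] at h5
      apply two_ne ht ht2
      linear_combination h5
    have hB0 : B = 0 := by
      by_contra hcon
      have h5 := fact_pos (t := t) (a := q ^ (m - 1) + 1) (by omega)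
      rw [dvd_iff', h4, one_pow] at h5
      apply two_ne ht ht2
      linear_combination h5
    have hcw : c ≤ w 0 := by
      rw [hc, hw]
      exact fact_le (pow_sub_dvd q 1 2) (hne _ (by omega))
    have h5 : 1 + f.factorization t ≤ w 0 := by
      have h6 := lte hp.one_lt ht hf le_rfl hq1'
      exact h6.trans (hc ▸ hcw)
    have h7 := hw0 (m - 2)
    have h8 := hw0 (m - 1)
    omega
  · have hc0 : c = 0 := by rw [hc]; exact Nat.factorization_eq_zero_of_not_dvd hq1'
    by_cases hq2 : t ∣ q ^ (2 * 1) - 1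
    · have h5 := hlte 1 le_rfl hq2
      rw [Nat.sub_self] at h5
      have h7 := hw0 (m - 2)
      have h8 := hw0 (m - 1)
      omega
    · have hw00 : w 0 = 0 := by rw [hw]; exact Nat.factorization_eq_zero_of_not_dvd hq2
      by_cases hA0 : A = 0
      · by_cases hB0 : B = 0
        · obtain ⟨i, hi, hi0⟩ : ∃ i ∈ Finset.range m, w i ≠ 0 := by
            by_contra hcon
            push Not at hcon
            rw [Finset.sum_eq_zero hcon] at hS
            omega
          have h5 := fact_pos (t := t) (a := q ^ (2 * (i + 1)) - 1) (by rw [← hw]; omega)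
          have h6 := hlte (i + 1) (by omega) h5
          rw [Nat.add_sub_cancel] at h6
          have h7 := Finset.single_le_sum (f := w) (fun i _ => Nat.zero_le _) hi
          omega
        · obtain ⟨g, hg1, hgm, hg⟩ := exists_lt (by omega) ht ht2 (by omega)
            (fact_pos (t := t) (a := q ^ (m - 1) + 1) (by omega)) h1
          have h6 := hlte g hg1 hg
          have h7 := hsum2 (g - 1) (m - 2) (by omega) (by omega)
          omega
      · obtain ⟨g, hg1, hgm, hg⟩ := exists_lt (by omega) ht ht2 (by omega)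
          (fact_pos (t := t) (a := q ^ m + 1) (by omega)) h0
        have h6 := hlte g hg1 hg
        have h7 := hsum2 (g - 1) (m - 1) (by omega) (by omega)
        omega

end Cfsg.Agent.H767.PD
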