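import Cfsg.Agent.H767.PD.Norm

/-!
# `p`-subgroups of `PSp_2m(p^f)` normalised by an element of order primitive for `2 (m - 1)` (helper767)

`card_pgroup_one` : they have order at most `q ^ (2 m)`; `odd_one`.
-/

set_option autoImplicit false
set_option linter.unusedSectionVars false

namespace Cfsg.Agent.H767.PD

open Cfsg Module Matrix Subgroup Cfsg.Agent.H568 Cfsg.Agent.H689 Cfsg.Agent.H458 Cfsg.Agent.H458.Zs
open Cfsg.Agent.H458.SpOp Cfsg.Agent.H458.SpAut
open Cfsg.Agent.ClassicalGeometry.SympBasic Cfsg.Agent.ClassicalGeometry.SympAutSemi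
open Cfsg.Agent.H160.PD (v Fx mem_Fx Uniq)

variable {m : ℕ} {F : Type} [Field F] [Fintype F]

local notation "Sp" => Matrix.symplecticGroup (Fin m) F
local notation "VV" => (Fin m ⊕ Fin m → F)
local notation "ff" => sympForm m F

/-- a set of elements is small -/
theorem card_le_of_inj {X : Subgroup Sp} {α : Type*} [Finite α] (t : X → α) (ht : Function.Injective t) {n : ℕ}
    (hα : Nat.card α = Fintype.card F ^ n) (hn : n ≤ 2 * m) : Nat.card X ≤ Fintype.card F ^ (2 * m) :=
  (Nat.card_le_card_of_injective t ht).trans (hα.le.trans (Nat.pow_le_pow_right Fintype.card_pos hn))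

/-- the fixed vectors on the quotient `v^⊥ / v` -/
theorem exists_fix_quot {p : ℕ} [hp : Fact p.Prime] (hpF : (p : F) = 0) {X : Subgroup Sp} (hX : IsPGroup p X)
    {u : VV} (hu : ∀ g ∈ X, op m F g u = u) {w₀ : VV} (hw₀ : ff w₀ u = 0) (hw₀' : ∀ a : F, w₀ ≠ a • u) :
    ∃ w : VV, ff w u = 0 ∧ (∀ a : F, w ≠ a • u) ∧ ∀ g ∈ X, ∃ a : F, op m F g w = w + a • u := by
  classical
  let N : Submodule F VV :=
    { carrier := {w | ff w u = 0}
      add_mem' := fun {a b} ha hb => by
        rw [Set.mem_ofPred_eq] at *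
        rw [sympForm_add_left, ha, hb, add_zero]
      zero_mem' := by rw [Set.mem_ofPred_eq, sympForm_zero_left]
      smul_mem' := fun c a ha => by
        rw [Set.mem_ofPred_eq] at *
        rw [sympForm_smul_left, ha, mul_zero] }
  have hN : ∀ w, w ∈ N ↔ ff w u = 0 := fun _ => Iff.rfl
  have huN : u ∈ N := sympForm_self u
  let L : Submodule F N := Submodule.span F {⟨u, huN⟩}
  have hgN : ∀ g : X, ∀ w ∈ N, op m F g w ∈ N := by
    intro g w hw
    rw [hN] at hw ⊢
    have h1 : ff (op m F g w) (op m F g u) = ff w u := op_form (g : Sp) w u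
    rw [hu g g.2] at h1
    rw [h1, hw]
  have hgL : ∀ g : X, L ≤ L.comap ((op m F g).restrict (hgN g)) := by
    intro g
    rw [Submodule.span_le]
    rintro _ rfl
    rw [SetLike.mem_coe, Submodule.mem_comap]
    have h1 : (op m F g).restrict (hgN g) ⟨u, huN⟩ = ⟨u, huN⟩ := Subtype.ext (hu g g.2)
    rw [h1]
    exact Submodule.mem_span_singleton_self _
  let ρ : X →* End F (N ⧸ L) :=
    { toFun := fun g => L.mapQ L ((op m F g).restrict (hgN g)) (hgL g)
      map_one' := by
        refine LinearMap.ext fun q => ?_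
        obtain ⟨w, rfl⟩ := L.mkQ_surjective q
        rw [Submodule.mkQ_apply, Submodule.mapQ_apply]
        congr 1
        apply Subtype.ext
        change op m F (1 : Sp) (w : VV) = w
        rw [map_one]; rfl
      map_mul' := fun g h => by
        refine LinearMap.ext fun q => ?_
        obtain ⟨w, rfl⟩ := L.mkQ_surjective q
        rw [Submodule.mkQ_apply, Module.End.mul_apply, Submodule.mapQ_apply, Submodule.mapQ_apply,
          Submodule.mapQ_apply]
        congr 1
        apply Subtype.ext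
        change op m F ((g : Sp) * h) (w : VV) = op m F g (op m F h w)
        rw [map_mul]; rfl }
  have hmem : ∀ w : N, w ∈ L ↔ ∃ a : F, (w : VV) = a • u := by
    intro w
    rw [Submodule.mem_span_singleton]
    constructor
    · rintro ⟨a, ha⟩
      exact ⟨a, (congrArg Subtype.val ha).symm⟩
    · rintro ⟨a, ha⟩
      exact ⟨a, Subtype.ext ha.symm⟩
  have hnt : Nontrivial (N ⧸ L) := by
    refine ⟨⟨Submodule.Quotient.mk ⟨w₀, hw₀⟩, 0, ?_⟩⟩
    intro h0
    rw [Submodule.Quotient.mk_eq_zero, hmem] at h0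
    obtain ⟨a, ha⟩ := h0
    exact hw₀' a ha
  obtain ⟨q, hq0, hq⟩ := Zs.exists_fixed ρ hpF hX
  obtain ⟨w, rfl⟩ := L.mkQ_surjective q
  refine ⟨w, w.2, ?_, ?_⟩
  · intro a ha
    apply hq0
    rw [Submodule.mkQ_apply, Submodule.Quotient.mk_eq_zero, hmem]
    exact ⟨a, ha⟩
  · intro g hg
    have h1 := hq ⟨g, hg⟩
    change L.mapQ L _ (hgL ⟨g, hg⟩) (L.mkQ w) = _ at h1
    rw [Submodule.mkQ_apply, Submodule.mapQ_apply, Submodule.Quotient.eq, hmem] at h1
    obtain ⟨a, ha⟩ := h1
    refine ⟨a, ?_⟩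
    have h2 : op m F g w - (w : VV) = a • u := ha
    rw [← h2]
    abel

/-- **`p`-subgroups normalised by an element of order primitive for `2 (m - 1)`.** -/
theorem card_pgroup_one (hm : 3 ≤ m) {p : ℕ} [hp : Fact p.Prime] (hpF : (p : F) = 0) {y : Sp} {l : ℕ}
    (hy : orderOf y = l) (hppd : Ppd (Fintype.card F) (2 * (m - 1)) l) {X : Subgroup Sp} (hX : IsPGroup p X)
    (hyX : y ∈ Subgroup.normalizer (X : Set Sp)) : Nat.card X ≤ Fintype.card F ^ (2 * m) := by
  classical
  have S := sit hy hppd (by omega) (by omega)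
  haveI : Nontrivial VV := by
    haveI : Nonempty (Fin m ⊕ Fin m) := ⟨Sum.inl ⟨0, by omega⟩⟩
    infer_instance
  have hconj : ∀ g ∈ X, y⁻¹ * g * y ∈ X := by
    intro g hg
    have h4 := (Subgroup.mem_normalizer_iff.1 hyX (y⁻¹ * g * y)).2
    apply h4
    have h5 : y * (y⁻¹ * g * y) * y⁻¹ = g := by group
    rw [h5]; exact hg
  have hgy : ∀ g : Sp, ∀ x, op m F g (op m F y x) = op m F y (op m F (y⁻¹ * g * y) x) := by
    intro g x
    rw [← Module.End.mul_apply, ← Module.End.mul_apply, ← map_mul, ← map_mul]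
    congr 2
    group
  obtain ⟨u, hu0, hu⟩ := Zs.exists_fixed (k := F) ((op m F).comp X.subtype) hpF hX
  have hu' : ∀ g ∈ X, op m F g u = u := fun g hg => hu ⟨g, hg⟩
  -- the fixed space
  let U : Submodule F VV :=
    { carrier := {x | x ∈ W (op m F y) ∧ ∀ g ∈ X, op m F g x = x}
      add_mem' := fun {a b} ha hb => ⟨add_mem ha.1 hb.1, fun g hg => by rw [map_add, ha.2 g hg, hb.2 g hg]⟩
      zero_mem' := ⟨zero_mem _, fun g _ => map_zero _⟩
      smul_mem' := fun c a ha => ⟨Submodule.smul_mem _ c ha.1, fun g hg => by rw [map_smul, ha.2 g hg]⟩ }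
  have hU : ∀ x, x ∈ U ↔ x ∈ W (op m F y) ∧ ∀ g ∈ X, op m F g x = x := fun _ => Iff.rfl
  have hUy : ∀ x, (∀ g ∈ X, op m F g x = x) → ∀ g ∈ X, op m F g (op m F y x) = op m F y x := by
    intro x hx g hg
    rw [hgy, hx _ (hconj g hg)]
  -- the form
  have horth : ∀ c ∈ C (op m F y), ∀ w ∈ W (op m F y), ff c w = 0 := fun c hc w hw =>
    Sit.orth (sympBilin m F) (op_form y) hc hw
  have hCdim : finrank F (C (op m F y)) = 2 := by
    have := S.finrank_C_add
    rw [finrank_V] at this
    omega
  rcases S.irr U (fun x hx => ⟨W_self hx.1, hUy x hx.2⟩) (fun x hx => hx.1) with h1 | h1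
  · -- the fixed vector is in `C`
    have huC : op m F y u = u := by
      rw [← sub_eq_zero]
      have h2 : op m F y u - u ∈ U := ⟨mem_W.2 ⟨u, rfl⟩, fun g hg => by
        rw [map_sub, hUy u hu' g hg, hu' g hg]⟩
      rwa [h1, Submodule.mem_bot] at h2
    have huC' : u ∈ C (op m F y) := mem_C.2 huC
    obtain ⟨w₀, hw₀, hw₀0⟩ := S.exists_ne
    have hw₀u : ff w₀ u = 0 := by rw [sympForm_swap, horth u huC' w₀ hw₀, neg_zero]
    obtain ⟨w₁, hw₁u, hw₁, hw₁X⟩ := exists_fix_quot hpF hX hu' hw₀u (by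
      intro a ha
      apply hw₀0
      apply S.disj hw₀
      rw [ha, map_smul, huC])
    -- `z`
    obtain ⟨z, hzC, hz⟩ : ∃ z ∈ C (op m F y), ff z u ≠ 0 := by
      by_contra hcon
      push Not at hcon
      apply hu0
      apply eq_zero_of_forall_sympForm_left (m := m) (F := F)
      intro x
      obtain ⟨w, hw, c, hc, rfl⟩ := S.decomp x
      rw [sympForm_add_left, hcon c hc, add_zero, sympForm_swap, horth u huC' w hw, neg_zero]
    -- `C` is spanned by `u` and `z`
    have hspan : ∀ c ∈ C (op m F y), ∃ a b : F, c = a • u + b • z := by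
      have hli : LinearIndependent F ![(⟨u, huC'⟩ : C (op m F y)), ⟨z, hzC⟩] := by
        rw [LinearIndependent.pair_iff]
        intro a b hab
        have h2 : a • u + b • z = 0 := congrArg Subtype.val hab
        have h3 : ff (a • u + b • z) u = 0 := by rw [h2, sympForm_zero_left]
        rw [sympForm_add_left, sympForm_smul_left, sympForm_smul_left, sympForm_self, mul_zero, zero_add] at h3
        have hb : b = 0 := (mul_eq_zero.1 h3).resolve_right hz
        rw [hb, zero_smul, add_zero] at h2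
        exact ⟨(smul_eq_zero.1 h2).resolve_right hu0, hb⟩
      intro c hc
      have h2 : (⟨c, hc⟩ : C (op m F y)) ∈ Submodule.span F (Set.range ![(⟨u, huC'⟩ : C (op m F y)), ⟨z, hzC⟩]) := by
        rw [hli.span_eq_top_of_card_eq_finrank (by rw [hCdim, Fintype.card_fin])]
        exact Submodule.mem_top
      rw [Matrix.range_cons, Matrix.range_cons, Matrix.range_empty, Set.union_empty, Set.singleton_union, Submodule.mem_span_pair] at h2
      obtain ⟨a, b, hab⟩ := h2
      exact ⟨a, b, (congrArg Subtype.val hab).symm⟩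
    -- the space `U'`
    let U' : Submodule F VV :=
      { carrier := {x | x ∈ W (op m F y) ∧ ∀ g ∈ X, ∃ a : F, op m F g x = x + a • u}
        add_mem' := fun {a b} ha hb => ⟨add_mem ha.1 hb.1, fun g hg => by
          obtain ⟨c, hc⟩ := ha.2 g hg
          obtain ⟨d, hd⟩ := hb.2 g hg
          exact ⟨c + d, by rw [map_add, hc, hd, add_smul]; abel⟩⟩
        zero_mem' := ⟨zero_mem _, fun g _ => ⟨0, by rw [map_zero, zero_smul, add_zero]⟩⟩
        smul_mem' := fun c a ha => ⟨Submodule.smul_mem _ c ha.1, fun g hg => by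
          obtain ⟨d, hd⟩ := ha.2 g hg
          exact ⟨c * d, by rw [map_smul, hd, smul_add, smul_smul]⟩⟩ }
    have hU' : ∀ x, x ∈ U' ↔ x ∈ W (op m F y) ∧ ∀ g ∈ X, ∃ a : F, op m F g x = x + a • u := fun _ => Iff.rfl
    have hUy' : ∀ x, (∀ g ∈ X, ∃ a : F, op m F g x = x + a • u) →
        ∀ g ∈ X, ∃ a : F, op m F g (op m F y x) = op m F y x + a • u := by
      intro x hx g hg
      obtain ⟨a, ha⟩ := hx _ (hconj g hg)
      exact ⟨a, by rw [hgy, ha, map_add, map_smul, huC]⟩
    have hUW : U' = W (op m F y) := by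
      rcases S.irr U' (fun x hx => ⟨W_self hx.1, hUy' x hx.2⟩) (fun x hx => hx.1) with h2 | h2
      · exfalso
        have h3 : op m F y w₁ - w₁ ∈ U' := ⟨mem_W.2 ⟨w₁, rfl⟩, fun g hg => by
          obtain ⟨a, ha⟩ := hUy' w₁ hw₁X g hg
          obtain ⟨b, hb⟩ := hw₁X g hg
          exact ⟨a - b, by rw [map_sub, ha, hb, sub_smul]; abel⟩⟩
        rw [h2, Submodule.mem_bot, sub_eq_zero] at h3
        obtain ⟨a, b, hab⟩ := hspan w₁ (mem_C.2 h3)
        rw [hab, sympForm_add_left, sympForm_smul_left, sympForm_smul_left, sympForm_self, mul_zero, zero_add] at hw₁u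
        have hb : b = 0 := (mul_eq_zero.1 hw₁u).resolve_right hz
        apply hw₁ a
        rw [hab, hb, zero_smul, add_zero]
      · exact h2
    -- the injection
    refine card_le_of_inj (fun g : X => op m F g z) ?_ (n := 2 * m) ?_ le_rfl
    · intro g h hgh
      have hgh' : op m F (g : Sp) z = op m F (h : Sp) z := hgh
      have hk : ((h : Sp)⁻¹ * (g : Sp)) ∈ X := X.mul_mem (X.inv_mem h.2) g.2
      have hkz : op m F ((h : Sp)⁻¹ * (g : Sp)) z = z := by
        rw [map_mul, Module.End.mul_apply, hgh', ← Module.End.mul_apply, ← map_mul, inv_mul_cancel, map_one]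
        rfl
      have hku : op m F ((h : Sp)⁻¹ * (g : Sp)) u = u := hu' _ hk
      have h2 : (h : Sp)⁻¹ * (g : Sp) = 1 := by
        apply eq_of_op
        intro x
        rw [map_one, Module.End.one_apply]
        obtain ⟨w, hw, c, hc, rfl⟩ := S.decomp x
        obtain ⟨a, b, rfl⟩ := hspan c hc
        rw [map_add, map_add, map_smul, map_smul, hku, hkz]
        congr 1
        have h3 : w ∈ U' := hUW ▸ hw
        obtain ⟨d, hd⟩ := h3.2 _ hk
        have h4 : ff (op m F ((h : Sp)⁻¹ * (g : Sp)) w) (op m F ((h : Sp)⁻¹ * (g : Sp)) z) = ff w z :=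
          op_form ((h : Sp)⁻¹ * (g : Sp)) w z
        rw [hkz, hd, sympForm_add_left, sympForm_smul_left, add_eq_left] at h4
        have h5 : ff u z ≠ 0 := by
          rw [sympForm_swap]
          exact neg_ne_zero.2 hz
        rw [hd, (mul_eq_zero.1 h4).resolve_right h5, zero_smul, add_zero]
      exact Subtype.ext (inv_mul_eq_one.1 h2).symm
    · rw [Nat.card_eq_fintype_card, Fintype.card_fun, Fintype.card_sum, Fintype.card_fin, two_mul]
  · -- `W` is fixed
    have hW : ∀ w ∈ W (op m F y), ∀ g ∈ X, op m F g w = w := fun w hw g hg => by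
      have h2 : w ∈ U := h1 ▸ hw
      exact h2.2 g hg
    have hC : ∀ c ∈ C (op m F y), ∀ g ∈ X, op m F g c ∈ C (op m F y) := by
      intro c hc g hg
      obtain ⟨w', hw', c', hc', hd⟩ := S.decomp (op m F g c)
      have h2 : w' = 0 := by
        apply eq_zero_of_forall_sympForm_left (m := m) (F := F)
        intro x
        obtain ⟨w, hw, d, hd', rfl⟩ := S.decomp x
        rw [sympForm_add_left, horth d hd' w' hw', add_zero]
        have h3 : ff (op m F g w) (op m F g c) = ff w c := op_form g w c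
        rw [hW w hw g hg, hd, sympForm_add_right, sympForm_swap w c', horth c' hc' w hw, neg_zero, add_zero,
          sympForm_swap w c, horth c hc w hw, neg_zero] at h3
        exact h3
      rw [hd, h2, zero_add]
      exact hc'
    have b : Basis (Fin 2) F (C (op m F y)) := Module.finBasisOfFinrankEq F _ hCdim
    refine card_le_of_inj (fun g : X => fun i : Fin 2 => (⟨op m F g (b i), hC _ (b i).2 g g.2⟩ : C (op m F y))) ?_
      (n := 4) ?_ (by omega)
    · intro g h hgh
      apply Subtype.ext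
      apply eq_of_op
      intro x
      obtain ⟨w, hw, c, hc, rfl⟩ := S.decomp x
      rw [map_add, map_add, hW w hw g g.2, hW w hw h h.2]
      congr 1
      have h2 : ((op m F (g : Sp)).comp (C (op m F y)).subtype) = ((op m F (h : Sp)).comp (C (op m F y)).subtype) := by
        apply b.ext
        intro i
        exact congrArg Subtype.val (congrFun hgh i)
      exact LinearMap.congr_fun h2 ⟨c, hc⟩
    · have hfin : Finite (C (op m F y)) := Module.finite_of_finite F
      have := Fintype.ofFinite (C (op m F y))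
      rw [Nat.card_eq_fintype_card, Fintype.card_fun, Fintype.card_fin,
        Module.card_eq_pow_finrank (K := F) (V := C (op m F y)), hCdim, ← pow_mul]

/-- passing to a central quotient -/
theorem card_le_of_central {G K : Type*} [Group G] [Group K] [Finite G] (π : G →* K) (hπ : Function.Surjective π)
    (hZ : π.ker ≤ center G) {p : ℕ} [hp : Fact p.Prime] {x : G} {B : ℕ}
    (h : ∀ P : Subgroup G, IsPGroup p P → x ∈ Subgroup.normalizer (P : Set G) → Nat.card P ≤ B) (Q : Subgroup K)
    (hQ : IsPGroup p Q) (hx : π x ∈ Subgroup.normalizer (Q : Set K)) : Nat.card Q ≤ B := by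
  have hK : Finite K := Finite.of_surjective π hπ
  obtain ⟨n, hn⟩ := IsPGroup.iff_card.1 hQ
  obtain ⟨P⟩ := (inferInstance : Nonempty (Sylow p ↥(Q.comap π)))
  obtain ⟨hPn, htop⟩ := Quot.normal_of_central (π.ker.subgroupOf (Q.comap π))
    (by
      intro z hz
      rw [mem_center_iff]
      intro g
      exact Subtype.ext (mem_center_iff.1 (hZ (mem_subgroupOf.1 hz)) g)) ((Quot.index_ker π hπ Q).trans hn) P
  have hxH : x ∈ Subgroup.normalizer ((Q.comap π : Subgroup G) : Set G) := by
    rw [Subgroup.mem_normalizer_iff] at hx ⊢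
    intro g
    rw [mem_comap, mem_comap, map_mul, map_mul, map_inv]
    exact hx _
  have hle := h _ (P.isPGroup'.map _) (Quot.mem_normalizer_map P hPn hxH)
  refine le_trans ?_ hle
  have hQP : Q ≤ ((P : Subgroup ↥(Q.comap π)).map (Q.comap π).subtype).map π := by
    intro y hy
    obtain ⟨g, rfl⟩ := hπ y
    have h1 : (⟨g, hy⟩ : ↥(Q.comap π)) ∈ (P : Subgroup ↥(Q.comap π)) ⊔ π.ker.subgroupOf (Q.comap π) := by
      rw [htop]
      exact mem_top _
    obtain ⟨a, ha, z, hz, he⟩ := (Subgroup.mem_sup_of_normal_left (s := (P : Subgroup ↥(Q.comap π)))).1 h1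
    have h2 : g = (a : G) * z := (congrArg Subtype.val he).symm
    have h3 : π (z : G) = 1 := mem_subgroupOf.1 hz
    refine ⟨a, ⟨a, ha, rfl⟩, ?_⟩
    rw [h2, map_mul, h3, mul_one]
  have h4 := Nat.le_of_dvd Nat.card_pos (card_dvd_of_le hQP)
  exact h4.trans (Nat.le_of_dvd Nat.card_pos (Subgroup.card_map_dvd _ _))

/-- **Subgroups of odd order with elements of order `r₁`.** -/
theorem odd_one (hm : 3 ≤ m) {p f : ℕ} [hp : Fact p.Prime] (hF : Fintype.card F = p ^ f) {l : ℕ}
    (hppd : Ppd (Fintype.card F) (2 * (m - 1)) l) (H : Subgroup (PSp m F)) (hH : Odd (Nat.card H))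
    (hl : l ∣ Nat.card H) : v p H ≤ 2 * m * f + (f + (2 * (m - 1)).factorization p) := by
  have hle := hppd.le (by omega)
  obtain ⟨hf, hpq⟩ := card_ne_one hp.1 hF
  have hpl : p ≠ l := by
    rintro rfl
    exact hppd.not_dvd hpq
  have hpF : (p : F) = 0 := by
    have := charP_of_card hp.1 hF
    exact CharP.cast_eq_zero F p
  refine H160.PD.odd_bound_of_uniq hp.1 hppd.prime hpl (uniq_one hm hppd) ?_ ?_ H hH hl
  · intro X hX x hx hxo
    obtain ⟨y, rfl, hy⟩ := exists_lift (by omega) hppd.prime (by omega) x hxo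
    have h1 := card_le_of_central (pr m F) surj_pr ker_pr.le (x := y) (B := Fintype.card F ^ (2 * m))
      (fun P hP hyP => card_pgroup_one hm hpF hy hppd hP hyP) X hX hx
    obtain ⟨k, hk⟩ := IsPGroup.iff_card.1 hX
    rw [hk, hF, ← pow_mul] at h1
    have h2 := (Nat.pow_le_pow_iff_right hp.1.one_lt).1 h1
    rw [v, hk, hp.1.factorization_pow, Finsupp.single_eq_same]
    rw [mul_comm (2 * m)]
    exact h2
  · intro x hx
    have h1 := (card_norm_pr (by omega) hppd (by omega) (by omega) (by omega) hx).trans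
      (Nat.mul_dvd_mul_right (cent_one_pr hm hppd hx) _)
    refine (v_le_of_dvd h1 (mul_ne_zero (cent_one_ne hm) (by omega))).trans ?_
    rw [Nat.factorization_mul (cent_one_ne hm) (by omega), Finsupp.add_apply, cent_one_factorization hm hp.1 hF]

end Cfsg.Agent.H767.PD
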