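import Cfsg.Agent.H767.PD.Auto

/-!
# Centralizers and normalizers of elements of primitive prime order (helper767, S4246 row PSp)

`y ∈ Sp_2m(q)` of order `l`, a primitive prime divisor of `q ^ D - 1`, `D > m`:
* `isCyclic_cent`, `card_cent_zero` : `D = 2 m`: `C(y)` is cyclic of order dividing `q ^ m + 1`;
* `cent_one` : `D = 2 (m - 1)`: `C(y)` has a normal subgroup of order dividing `(q² - 1) (q² - q)`
  with cyclic quotient of order dividing `q ^ (m - 1) + 1`;
* `norm_comm` : if `g y g⁻¹` is a power of `y` then `g ^ D` commutes with `y`.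
-/

set_option autoImplicit false
set_option linter.unusedSectionVars false

namespace Cfsg.Agent.H767.PD

open Cfsg Module Matrix Subgroup Cfsg.Agent.H568 Cfsg.Agent.H689 Cfsg.Agent.H458 Cfsg.Agent.H458.Zs
open Cfsg.Agent.H458.SpOp Cfsg.Agent.H458.SpAut
open Cfsg.Agent.ClassicalGeometry.SympBasic Cfsg.Agent.ClassicalGeometry.SympAutSemi
open Cfsg.Agent.H160.PD (v Fx mem_Fx Uniq mem_zpowers_of_cyclic)

/-! ### the normalizer of `⟨y⟩` -/

section Norm

variable {k : Type*} [Field k] [Fintype k] {V : Type*} [AddCommGroup V] [Module k V] [FiniteDimensional k V]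

/-- a conjugate power of `y` is a power of `y` by a power of `q` -/
theorem exists_frob {y : End k V} {l D : ℕ} (h : Sit y l D) (hD : finrank k V = D) {g g' : End k V}
    (hgg : g' * g = 1) {j : ℕ} (hgy : g * y * g' = y ^ j) : ∃ i : ℕ, y ^ j = y ^ Fintype.card k ^ i := by
  classical
  have htop := h.W_top hD
  have hmt : ∀ v : V, v ∈ W y := fun v => htop ▸ Submodule.mem_top
  let R : Subalgebra k (End k V) := Subalgebra.centralizer k {y}
  have hR : ∀ a : End k V, a ∈ R ↔ ∀ v, a (y v) = y (a v) := by
    intro a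
    rw [Subalgebra.mem_centralizer_iff]
    constructor
    · intro h1 v
      have h2 := h1 y rfl
      exact (LinearMap.congr_fun h2 v).symm
    · rintro h1 _ rfl
      ext v
      exact (h1 v).symm
  let _ : CommRing R :=
    { (inferInstance : Ring R) with
      mul_comm := by
        rintro ⟨a, ha⟩ ⟨b, hb⟩
        apply Subtype.ext
        ext v
        exact h.comm_comm ((hR a).1 ha) ((hR b).1 hb) (hmt v) }
  have hdom : ∀ a b : R, a * b = 0 → a = 0 ∨ b = 0 := by
    rintro ⟨a, ha⟩ ⟨b, hb⟩ hab
    by_cases hb0 : b = 0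
    · right; exact Subtype.ext hb0
    · left
      apply Subtype.ext
      have hab' : a * b = 0 := congrArg Subtype.val hab
      obtain ⟨v, hv⟩ : ∃ v, b v ≠ 0 := by
        by_contra hcon
        push Not at hcon
        exact hb0 (LinearMap.ext hcon)
      ext w
      obtain ⟨f, rfl⟩ := h.cyc (hmt (b v)) hv (hmt w)
      obtain ⟨g, hg⟩ := h.comm ((hR a).1 ha)
      change a (Polynomial.aeval y f (b v)) = 0
      rw [hg _ (hmt _), ← Module.End.mul_apply, ← map_mul, mul_comm, map_mul, Module.End.mul_apply, ← hg _ (hmt _)]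
      have h1 : a (b v) = 0 := LinearMap.congr_fun hab' v
      rw [h1, map_zero]
  have hnt : Nontrivial R := by
    refine ⟨⟨0, 1, ?_⟩⟩
    intro h0
    obtain ⟨v, -, hv⟩ := h.exists_ne
    apply hv
    have h1 : (0 : End k V) = 1 := congrArg Subtype.val h0
    have h2 := LinearMap.congr_fun h1 v
    simpa using h2.symm
  have hnz : NoZeroDivisors R := ⟨fun {a b} hab => hdom a b hab⟩
  have : IsDomain R := NoZeroDivisors.to_isDomain R
  -- the polynomial
  set μ : Polynomial k := LinearMap.charpoly y with hμ
  have hμm : μ.Monic := LinearMap.charpoly_monic y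
  have hμd : μ.natDegree = D := by rw [hμ, LinearMap.charpoly_natDegree, hD]
  have hμ0 : Polynomial.aeval y μ = 0 := LinearMap.aeval_self_charpoly y
  have hyn : ∀ n : ℕ, y ^ n ∈ R := fun n => by
    rw [hR]
    intro v
    rw [← Module.End.mul_apply, ← Module.End.mul_apply, ← pow_succ, ← pow_succ']
  let a : ℕ → R := fun n => ⟨y ^ n, hyn n⟩
  have hroot : ∀ n, Polynomial.aeval (y ^ n) μ = 0 → a n ∈ μ.aroots R := by
    intro n hn
    rw [Polynomial.mem_aroots]
    refine ⟨hμm.ne_zero, ?_⟩
    apply Subtype.ext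
    rw [Polynomial.aeval_subalgebra_coe]
    exact hn
  have hj : a j ∈ μ.aroots R := by
    apply hroot
    have h1 : ∀ f : Polynomial k, Polynomial.aeval (y ^ j) f * g = g * Polynomial.aeval y f := by
      intro f
      induction f using Polynomial.induction_on' with
      | add p q hp hq => rw [map_add, map_add, add_mul, mul_add, hp, hq]
      | monomial n c =>
        rw [Polynomial.aeval_monomial, Polynomial.aeval_monomial]
        have h2 : ∀ n : ℕ, (y ^ j) ^ n * g = g * y ^ n := by
          intro n
          induction n with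
          | zero => simp
          | succ n ih =>
            rw [pow_succ, mul_assoc]
            have h3 : y ^ j * g = g * y := by rw [← hgy, mul_assoc, hgg, mul_one]
            rw [h3, ← mul_assoc, ih, mul_assoc, ← pow_succ]
        rw [mul_assoc, h2, ← mul_assoc, ← mul_assoc, Algebra.commutes]
    have h2 := h1 μ
    rw [hμ0, mul_zero] at h2
    have hgg' : g * g' = 1 := mul_eq_one_comm.1 hgg
    calc Polynomial.aeval (y ^ j) μ = Polynomial.aeval (y ^ j) μ * (g * g') := by rw [hgg', mul_one]
      _ = (Polynomial.aeval (y ^ j) μ * g) * g' := by rw [mul_assoc]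
      _ = 0 := by rw [h2, zero_mul]
  have hi : ∀ i, a (Fintype.card k ^ i) ∈ μ.aroots R := by
    intro i
    apply hroot
    rw [Zs.aeval_pow, hμ0, zero_pow]
    exact pow_ne_zero _ Fintype.card_pos.ne'
  have hinj : Set.InjOn (fun i => a (Fintype.card k ^ i)) ((Finset.range D : Finset ℕ) : Set ℕ) := by
    have key : ∀ i i' : ℕ, i < i' → i' < D → a (Fintype.card k ^ i) ≠ a (Fintype.card k ^ i') := by
      intro i i' hii hi' he
      have h1 : y ^ Fintype.card k ^ i = y ^ Fintype.card k ^ i' := congrArg Subtype.val he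
      -- `y` has order `l`
      have hord : orderOf y = l := by
        haveI := Fact.mk h.ppd.prime
        exact orderOf_eq_prime h.pow h.ne
      have hu : IsUnit y := by
        refine ⟨⟨y, y ^ (l - 1), ?_, ?_⟩, rfl⟩
        · rw [← pow_succ', Nat.sub_add_cancel h.ppd.prime.one_le, h.pow]
        · rw [← pow_succ, Nat.sub_add_cancel h.ppd.prime.one_le, h.pow]
      have h2 : Fintype.card k ^ i ≡ Fintype.card k ^ i' [MOD l] := by
        obtain ⟨u, hu⟩ := hu
        have h3 : u ^ Fintype.card k ^ i = u ^ Fintype.card k ^ i' := by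
          apply Units.ext
          rw [Units.val_pow_eq_pow_val, Units.val_pow_eq_pow_val, hu]
          exact h1
        rw [pow_eq_pow_iff_modEq] at h3
        rw [← orderOf_units, hu, hord] at h3
        exact h3
      have h4 : l ∣ Fintype.card k ^ i' - Fintype.card k ^ i :=
        (Nat.modEq_iff_dvd' (Nat.pow_le_pow_right Fintype.card_pos hii.le)).1 h2
      have h5 : Fintype.card k ^ i' - Fintype.card k ^ i = Fintype.card k ^ i * (Fintype.card k ^ (i' - i) - 1) := by
        rw [Nat.mul_sub, mul_one, ← pow_add, Nat.add_sub_cancel' hii.le]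
      rw [h5] at h4
      rcases h.ppd.prime.dvd_mul.1 h4 with h6 | h6
      · exact h.ppd.not_dvd (h.ppd.prime.dvd_of_dvd_pow h6)
      · rw [h.ppd.iff] at h6
        have := Nat.le_of_dvd (by omega) h6
        omega
    intro i hi i' hi' he
    rw [Finset.coe_range, Set.mem_Iio] at hi hi'
    rcases lt_trichotomy i i' with h1 | h1 | h1
    · exact absurd he (key i i' h1 hi')
    · exact h1
    · exact absurd he.symm (key i' i h1 hi)
  have hsub : (Finset.range D).image (fun i => a (Fintype.card k ^ i)) ⊆ (μ.aroots R).toFinset := by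
    intro z hz
    obtain ⟨i, -, rfl⟩ := Finset.mem_image.1 hz
    rw [Multiset.mem_toFinset]
    exact hi i
  have hcard : (μ.aroots R).toFinset.card ≤ ((Finset.range D).image (fun i => a (Fintype.card k ^ i))).card := by
    rw [Finset.card_image_of_injOn hinj, Finset.card_range, ← hμd]
    exact (Multiset.toFinset_card_le _).trans ((Polynomial.card_roots' _).trans
      (Polynomial.natDegree_map_le))
  have heq := Finset.eq_of_subset_of_card_le hsub hcard
  have h1 : a j ∈ (Finset.range D).image (fun i => a (Fintype.card k ^ i)) := by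
    rw [heq, Multiset.mem_toFinset]
    exact hj
  obtain ⟨i, -, hia⟩ := Finset.mem_image.1 h1
  exact ⟨i, (congrArg Subtype.val hia).symm⟩

/-- **Normalizing elements.** -/
theorem norm_pow {y : End k V} {l D : ℕ} (h : Sit y l D) (hD : finrank k V = D) {g g' : End k V}
    (hgg : g' * g = 1) {j : ℕ} (hgy : g * y * g' = y ^ j) : g ^ D * y = y * g ^ D := by
  obtain ⟨i, hi⟩ := exists_frob h hD hgg hgy
  have h1 : g * y = y ^ Fintype.card k ^ i * g := by
    rw [← hi, ← hgy, mul_assoc (g * y), hgg, mul_one]
  have h2 : ∀ n : ℕ, g * y ^ n = (y ^ Fintype.card k ^ i) ^ n * g := by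
    intro n
    induction n with
    | zero => simp
    | succ n ih => rw [pow_succ, ← mul_assoc, ih, mul_assoc, h1, ← mul_assoc, ← pow_succ]
  have h3 : ∀ n : ℕ, g ^ n * y = y ^ Fintype.card k ^ (i * n) * g ^ n := by
    intro n
    induction n with
    | zero => simp
    | succ n ih =>
      rw [pow_succ', mul_assoc, ih, ← mul_assoc, h2, mul_assoc, ← pow_mul, ← pow_add,
        show i + i * n = i * (n + 1) by ring]
  rw [h3]
  congr 1
  have h4 : l ∣ Fintype.card k ^ (i * D) - 1 := (h.ppd.iff _).2 (dvd_mul_left _ _)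
  obtain ⟨c, hc⟩ := h4
  have h5 : Fintype.card k ^ (i * D) = l * c + 1 := by
    have : 1 ≤ Fintype.card k ^ (i * D) := Nat.one_le_pow _ _ Fintype.card_pos
    omega
  rw [h5, pow_succ, pow_mul, h.pow, one_pow, one_mul]

theorem norm_pow' {y : End k V} {l D : ℕ} (h : Sit y l D) (hD : finrank k V = D) {g : End k V}
    (hg : Function.Injective g) {j : ℕ} (hgy : g * y = y ^ j * g) : g ^ D * y = y * g ^ D := by
  obtain ⟨g', hg'⟩ := LinearMap.exists_leftInverse_of_injective g (LinearMap.ker_eq_bot.2 hg)
  have h1 : g' * g = 1 := hg'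
  refine norm_pow h hD h1 (j := j) ?_
  rw [hgy, mul_assoc, mul_eq_one_comm.1 h1, mul_one]

/-- restriction to the commutator space -/
theorem sit_restrict {y : End k V} {l D : ℕ} (h : Sit y l D) :
    Sit (y.restrict (fun w (hw : w ∈ W y) => W_self hw)) l D where
  pow := by
    refine LinearMap.ext fun w => Subtype.ext ?_
    rw [Module.End.pow_restrict]
    change (y ^ l) (w : V) = w
    rw [h.pow, Module.End.one_apply]
  ne := by
    intro h0
    obtain ⟨w, hw, hw0⟩ := h.exists_ne
    apply hw0
    apply h.disj hw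
    have h1 := LinearMap.congr_fun h0 ⟨w, hw⟩
    exact congrArg Subtype.val h1
  ppd := h.ppd
  pos := h.pos
  dim := by
    rw [h.finrank_W]
    have := h.pos
    omega

end Norm

variable {m : ℕ} {F : Type} [Field F] [Fintype F]

local notation "Sp" => Matrix.symplecticGroup (Fin m) F

theorem op_pow_sub {y : End F (Fin m ⊕ Fin m → F)} (n : ℕ) (v : Fin m ⊕ Fin m → F) : (y ^ n) v - v ∈ W y := by
  induction n with
  | zero => rw [pow_zero, Module.End.one_apply, sub_self]; exact zero_mem _
  | succ n ih =>
    have h1 : (y ^ (n + 1)) v - v = (y ((y ^ n) v) - (y ^ n) v) + ((y ^ n) v - v) := by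
      rw [pow_succ', Module.End.mul_apply]; abel
    rw [h1]
    exact add_mem (mem_W.2 ⟨_, rfl⟩) ih

theorem op_injective' (g : Sp) : Function.Injective (op m F g) := by
  intro a b h
  have h1 := congrArg (op m F g⁻¹) h
  rwa [← Module.End.mul_apply, ← Module.End.mul_apply, ← map_mul, inv_mul_cancel, map_one] at h1

/-- **The normalizer of `⟨y⟩` in `Sp`.** -/
theorem norm_comm {y g : Sp} {l D : ℕ} (hy : orderOf y = l) (hppd : Ppd (Fintype.card F) D l) (hD0 : 0 < D)
    (hD : 2 * m < 2 * D) {j : ℕ} (hgy : g * y * g⁻¹ = y ^ j) : g ^ D * y = y * g ^ D := by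
  have S := sit hy hppd hD0 hD
  have hgy' : g * y = y ^ j * g := by rw [← hgy]; group
  have hGY : ∀ v, op m F g (op m F y v) = ((op m F y) ^ j) (op m F g v) := by
    intro v
    rw [← map_pow, ← Module.End.mul_apply, ← Module.End.mul_apply, ← map_mul, ← map_mul, hgy']
  have hGW : ∀ w ∈ W (op m F y), op m F g w ∈ W (op m F y) := by
    intro w hw
    obtain ⟨u, rfl⟩ := mem_W.1 hw
    rw [map_sub, hGY]
    exact op_pow_sub j _
  have hcop : j.Coprime (orderOf y) := by
    rw [hy]
    apply Nat.Coprime.symm
    rw [hppd.prime.coprime_iff_not_dvd]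
    intro h1
    have h2 : y ^ j = 1 := by rw [← orderOf_dvd_iff_pow_eq_one, hy]; exact h1
    rw [h2, mul_inv_eq_one, mul_eq_left] at hgy
    rw [hgy, orderOf_one] at hy
    exact hppd.prime.one_lt.ne hy
  obtain ⟨i, hi⟩ := exists_pow_eq_self_of_coprime hcop
  have hfix : ∀ v, ((op m F y) ^ j) v = v → op m F y v = v := by
    intro v hv
    have h1 : ∀ n, (((op m F y) ^ j) ^ n) v = v := by
      intro n
      induction n with
      | zero => rfl
      | succ n ih => rw [pow_succ, Module.End.mul_apply, hv, ih]
    have h2 := h1 i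
    rwa [← map_pow, ← map_pow, hi] at h2
  have hGC : ∀ c ∈ C (op m F y), op m F g c ∈ C (op m F y) := by
    intro c hc
    rw [mem_C] at hc ⊢
    apply hfix
    rw [← hGY, hc]
  -- on `W`
  set YW := (op m F y).restrict (fun w (hw : w ∈ W (op m F y)) => W_self hw) with hYW
  set GW := (op m F g).restrict hGW with hGW'
  have hinj : Function.Injective GW := by
    intro a b hab
    exact Subtype.ext (op_injective' g (congrArg Subtype.val hab))
  have h1 : GW * YW = YW ^ j * GW := by
    refine LinearMap.ext fun w => Subtype.ext ?_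
    rw [hYW, Module.End.pow_restrict]
    exact hGY w
  have h2 := norm_pow' (sit_restrict S) S.finrank_W hinj h1
  apply SpOp.op_injective
  refine LinearMap.ext fun v => ?_
  obtain ⟨w, hw, c, hc, rfl⟩ := S.decomp v
  rw [map_mul, map_mul, Module.End.mul_apply, Module.End.mul_apply, map_add, map_add, map_add, map_add]
  congr 1
  · have h3 := LinearMap.congr_fun h2 ⟨w, hw⟩
    have h4 := congrArg Subtype.val h3
    rw [hGW', Module.End.pow_restrict] at h4
    rw [map_pow]
    exact h4
  · rw [mem_C.1 hc]
    have h3 : ∀ n : ℕ, (op m F (g ^ n)) c ∈ C (op m F y) := by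
      intro n
      induction n with
      | zero => rw [pow_zero, map_one]; exact hc
      | succ n ih => rw [pow_succ', map_mul, Module.End.mul_apply]; exact hGC _ ih
    exact (mem_C.1 (h3 D)).symm

/-! ### centralizers -/

theorem comm_op {y g : Sp} (h : g * y = y * g) (v : Fin m ⊕ Fin m → F) :
    op m F g (op m F y v) = op m F y (op m F g v) := by
  rw [← Module.End.mul_apply, ← Module.End.mul_apply, ← map_mul, ← map_mul, h]

theorem isCyclic_cent {y : Sp} {l : ℕ} (hy : orderOf y = l) (hppd : Ppd (Fintype.card F) (2 * m) l) (hm : 0 < m) :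
    IsCyclic ↥(centralizer ({y} : Set Sp)) := by
  refine (sit hy hppd (by omega) (by omega)).isCyclic finrank_V ((op m F).comp (centralizer ({y} : Set Sp)).subtype)
    (SpOp.op_injective.comp Subtype.val_injective) ?_
  intro g v
  exact comm_op (mem_centralizer_singleton_iff.1 g.2) v

/-- **`|C(y)|` divides `q ^ m + 1`.** -/
theorem card_cent_zero {y : Sp} {l : ℕ} (hy : orderOf y = l) (hppd : Ppd (Fintype.card F) (2 * m) l) (hm : 0 < m) :
    Nat.card ↥(centralizer ({y} : Set Sp)) ∣ Fintype.card F ^ m + 1 := by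
  have := isCyclic_cent hy hppd hm
  obtain ⟨g, hg⟩ := this.exists_ofOrder_eq_natCard
  rw [← hg]
  apply orderOf_dvd_of_pow_eq_one
  apply Subtype.ext
  exact pow_eq_one hy hppd hm (mem_centralizer_singleton_iff.1 g.2)

/-- the units of the endomorphisms of a plane -/
theorem card_units_plane {k : Type*} [Field k] [Fintype k] {U : Type*} [AddCommGroup U] [Module k U]
    [FiniteDimensional k U] (h : finrank k U = 2) :
    Nat.card (End k U)ˣ = (Fintype.card k ^ 2 - 1) * (Fintype.card k ^ 2 - Fintype.card k) := by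
  have b : Basis (Fin 2) k U := Module.finBasisOfFinrankEq k U h
  have e : (End k U)ˣ ≃* GL (Fin 2) k := Units.mapEquiv (algEquivMatrix b).toMulEquiv
  rw [Nat.card_congr e.toEquiv, Matrix.card_GL_field, Fin.prod_univ_two]
  simp

/-- **The structure of `C(y)`, `D = 2 (m - 1)`.** -/
theorem cent_one {y : Sp} {l : ℕ} (hy : orderOf y = l) (hppd : Ppd (Fintype.card F) (2 * (m - 1)) l) (hm : 3 ≤ m) :
    ∃ K : Subgroup ↥(centralizer ({y} : Set Sp)), ∃ _ : K.Normal,
      IsCyclic (↥(centralizer ({y} : Set Sp)) ⧸ K) ∧ K.index ∣ Fintype.card F ^ (m - 1) + 1 ∧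
      Nat.card K ∣ (Fintype.card F ^ 2 - 1) * (Fintype.card F ^ 2 - Fintype.card F) := by
  classical
  have S := sit hy hppd (by omega) (by omega)
  have hgW : ∀ g : ↥(centralizer ({y} : Set Sp)), ∀ w ∈ W (op m F y), op m F g w ∈ W (op m F y) := fun g w hw =>
    W_of_comm (comm_op (mem_centralizer_singleton_iff.1 g.2)) hw
  have hgC : ∀ g : ↥(centralizer ({y} : Set Sp)), ∀ w ∈ C (op m F y), op m F g w ∈ C (op m F y) := fun g w hw => by
    rw [mem_C] at hw ⊢
    rw [← comm_op (mem_centralizer_singleton_iff.1 g.2), hw]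
  let ρ₀ : ↥(centralizer ({y} : Set Sp)) →* End F (W (op m F y)) :=
    { toFun := fun g => (op m F g).restrict (hgW g)
      map_one' := by
        refine LinearMap.ext fun w => Subtype.ext ?_
        change op m F (1 : Sp) (w : Fin m ⊕ Fin m → F) = w
        rw [map_one]; rfl
      map_mul' := fun g h => by
        refine LinearMap.ext fun w => Subtype.ext ?_
        change op m F ((g : Sp) * h) (w : Fin m ⊕ Fin m → F) = op m F g (op m F h w)
        rw [map_mul]; rfl }
  let ρ := ρ₀.toHomUnits
  have hρ : ∀ g, ((ρ g : (End F (W (op m F y)))ˣ) : End F (W (op m F y))) = ρ₀ g := fun g => rfl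
  have hcyc : IsCyclic ρ.range := by
    refine (sit_restrict S).isCyclic S.finrank_W ((Units.coeHom _).comp ρ.range.subtype)
      (Units.val_injective.comp Subtype.val_injective) ?_
    rintro ⟨_, g, rfl⟩ w
    apply Subtype.ext
    exact comm_op (mem_centralizer_singleton_iff.1 g.2) w
  refine ⟨ρ.ker, inferInstance, ?_, ?_, ?_⟩
  · exact isCyclic_of_surjective (QuotientGroup.quotientKerEquivRange ρ).symm.toMonoidHom
      (QuotientGroup.quotientKerEquivRange ρ).symm.surjective
  · rw [Subgroup.index_ker]
    obtain ⟨⟨_, g, rfl⟩, hg⟩ := hcyc.exists_ofOrder_eq_natCard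
    rw [← hg]
    apply orderOf_dvd_of_pow_eq_one
    apply Subtype.ext
    apply Units.ext
    change ((ρ g ^ (Fintype.card F ^ (m - 1) + 1) : (End F (W (op m F y)))ˣ) : End F (W (op m F y))) = 1
    rw [Units.val_pow_eq_pow_val, hρ]
    refine LinearMap.ext fun w => Subtype.ext ?_
    have h1 : ∀ n : ℕ, (((ρ₀ g ^ n) w : W (op m F y)) : Fin m ⊕ Fin m → F) = ((op m F g) ^ n) w := by
      intro n
      induction n with
      | zero => rfl
      | succ n ih =>
        rw [pow_succ', pow_succ', Module.End.mul_apply, Module.End.mul_apply, ← ih]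
        rfl
    rw [h1]
    exact S.pow_eq (sympBilin m F) (op_form y) nondeg (comm_op (mem_centralizer_singleton_iff.1 g.2)) (op_form _) w.2
  · rw [← card_units_plane (k := F) (U := C (op m F y)) (by have := S.finrank_C_add; rw [finrank_V] at this; omega)]
    let σ₀ : ↥(centralizer ({y} : Set Sp)) →* End F (C (op m F y)) :=
      { toFun := fun g => (op m F g).restrict (hgC g)
        map_one' := by
          refine LinearMap.ext fun w => Subtype.ext ?_
          change op m F (1 : Sp) (w : Fin m ⊕ Fin m → F) = w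
          rw [map_one]; rfl
        map_mul' := fun g h => by
          refine LinearMap.ext fun w => Subtype.ext ?_
          change op m F ((g : Sp) * h) (w : Fin m ⊕ Fin m → F) = op m F g (op m F h w)
          rw [map_mul]; rfl }
    let σ := σ₀.toHomUnits.comp ρ.ker.subtype
    have hσ : Function.Injective σ := by
      rw [← MonoidHom.ker_eq_bot_iff, eq_bot_iff]
      rintro ⟨g, hg⟩ hg'
      rw [MonoidHom.mem_ker] at hg hg'
      rw [Subgroup.mem_bot]
      apply Subtype.ext
      apply Subtype.ext
      apply SpOp.op_injective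
      change op m F (g : Sp) = op m F 1
      rw [map_one]
      refine LinearMap.ext fun v => ?_
      obtain ⟨w, hw, c, hc, rfl⟩ := S.decomp v
      rw [map_add, Module.End.one_apply]
      congr 1
      · have h1 : ρ₀ g = 1 := by rw [← hρ, hg]; rfl
        exact congrArg Subtype.val (LinearMap.congr_fun h1 ⟨w, hw⟩)
      · have h1 : σ₀ g = 1 := congrArg Units.val hg'
        exact congrArg Subtype.val (LinearMap.congr_fun h1 ⟨c, hc⟩)
    have : Finite (End F (C (op m F y)))ˣ := by
      have : Finite (End F (C (op m F y))) := Module.finite_of_finite F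
      infer_instance
    exact card_dvd_of_injective σ hσ

theorem card_cent_one {y : Sp} {l : ℕ} (hy : orderOf y = l) (hppd : Ppd (Fintype.card F) (2 * (m - 1)) l)
    (hm : 3 ≤ m) : Nat.card ↥(centralizer ({y} : Set Sp)) ∣ (Fintype.card F ^ (m - 1) + 1) *
      ((Fintype.card F ^ 2 - 1) * (Fintype.card F ^ 2 - Fintype.card F)) := by
  obtain ⟨K, _, _, h1, h2⟩ := cent_one hy hppd hm
  rw [← card_mul_index K, mul_comm]
  exact mul_dvd_mul h1 h2

end Cfsg.Agent.H767.PD
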