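import Cfsg.Agent.H767.PD.Norm
import Cfsg.Agent.S0814

/-!
# The order of `Out PSp_2m(q)` and the valuations (helper767, S4246 row PSp)
-/

set_option autoImplicit false
set_option linter.unusedSectionVars false

namespace Cfsg.Agent.H767.PD

open Cfsg Module Matrix Subgroup Cfsg.Agent.H568 Cfsg.Agent.H689 Cfsg.Agent.H458 Cfsg.Agent.H458.Zs
open Cfsg.Agent.H458.SpOp Cfsg.Agent.H458.SpAut
open Cfsg.Agent.ClassicalGeometry.SympBasic Cfsg.Agent.ClassicalGeometry.SympAutSemi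
open Cfsg.Agent.H160.PD (v Fx mem_Fx Uniq out Good)

variable {m : ℕ} {F : Type} [Field F] [Fintype F] {p f : ℕ}

local notation "Sp" => Matrix.symplecticGroup (Fin m) F

theorem out_eq (hZ : center (PSp m F) = ⊥) (hm : 2 ≤ m) (h22 : m = 2 → 3 ≤ Fintype.card F) [hp : Fact p.Prime]
    (hF : Fintype.card F = p ^ f) :
    out (PSp m F) = (if m = 2 ∧ p = 2 then 2 else 1) * Nat.gcd 2 (p ^ f - 1) * f := by
  have h1 := S0814.result p f (card_ne_one hp.1 hF).1 hF m hm (by rwa [← hF])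
  have h2 := card_mul_index (MulAut.conj : PSp m F →* MulAut (PSp m F)).range
  have h3 : Nat.card (MulAut.conj : PSp m F →* MulAut (PSp m F)).range = Nat.card (PSp m F) :=
    Nat.card_congr (MonoidHom.ofInjective (H160.PD.conj_injective hZ)).symm.toEquiv
  rw [h1, h3, mul_comm] at h2
  exact Nat.eq_of_mul_eq_mul_right Nat.card_pos h2

/-- the order of `PSp` -/
theorem card_psp (hm : 1 ≤ m) : Nat.card (PSp m F) * Nat.gcd 2 (Fintype.card F - 1) = Nat.card Sp := by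
  rw [← LieClassical.SympCenter.card_center hm]
  exact (Subgroup.card_eq_card_quotient_mul_card_subgroup _).symm

theorem gcd_ne (q : ℕ) : Nat.gcd 2 (q - 1) ≠ 0 := by
  intro h
  have := Nat.eq_zero_of_gcd_eq_zero_left h
  omega

theorem v_psp_of (hm : 1 ≤ m) {t : ℕ} (ht : (Nat.gcd 2 (Fintype.card F - 1)).factorization t = 0) :
    v t (PSp m F) = v t Sp := by
  rw [v, v, ← card_psp hm, Nat.factorization_mul Nat.card_pos.ne' (gcd_ne _), Finsupp.add_apply, ht, add_zero]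

theorem gcd_fact {q t : ℕ} (ht : t.Prime) (ht2 : t ≠ 2) : (Nat.gcd 2 (q - 1)).factorization t = 0 := by
  apply Nat.factorization_eq_zero_of_not_dvd
  intro h
  exact ht2 ((Nat.prime_dvd_prime_iff_eq ht Nat.prime_two).1 (h.trans (Nat.gcd_dvd_left _ _)))

theorem gcd_fact_char [hp : Fact p.Prime] (hf : 1 ≤ f) : (Nat.gcd 2 (p ^ f - 1)).factorization p = 0 := by
  by_cases h2 : p = 2
  · apply Nat.factorization_eq_zero_of_not_dvd
    intro h
    have h1 : p ∣ (p ^ f) ^ 1 - 1 := by rw [pow_one]; exact h.trans (Nat.gcd_dvd_right _ _)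
    exact not_dvd_sub hp.1 (dvd_pow_self p (by omega)) (pow_pos hp.1.pos _) one_ne_zero h1
  · exact gcd_fact hp.1 h2

theorem v_psp_odd (hm : 1 ≤ m) {t : ℕ} (ht : t.Prime) (ht2 : t ≠ 2) : v t (PSp m F) = v t Sp :=
  v_psp_of hm (gcd_fact ht ht2)

theorem v_psp_char (hm : 1 ≤ m) [hp : Fact p.Prime] (hF : Fintype.card F = p ^ f) :
    v p (PSp m F) = m ^ 2 * f := by
  rw [v_psp_of hm (by rw [hF]; exact gcd_fact_char (card_ne_one hp.1 hF).1), v_sp hp.1 hF]

/-- `v_t |Sp|`, `t ≠ p` -/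
theorem v_sp_eq {t : ℕ} (htq : ¬ t ∣ Fintype.card F) :
    v t Sp = ∑ i ∈ Finset.range m, (Fintype.card F ^ (2 * (i + 1)) - 1).factorization t := by
  have h1 : ∀ i ∈ Finset.range m, Fintype.card F ^ (2 * (i + 1)) - 1 ≠ 0 := by
    intro i _
    have : 1 < Fintype.card F ^ (2 * (i + 1)) := Nat.one_lt_pow (by omega) Fintype.one_lt_card
    omega
  rw [v, LieClassical.SympCount.card_symplecticGroup, Nat.factorization_mul (pow_ne_zero _ Fintype.card_pos.ne')
    (Finset.prod_ne_zero_iff.2 h1), Finsupp.add_apply, Nat.factorization_prod h1, Finsupp.finset_sum_apply,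
    Nat.factorization_pow, Finsupp.smul_apply, Nat.factorization_eq_zero_of_not_dvd htq, smul_zero, zero_add]

/-- `v_t (q ^ i - 1) ≥ 1 + v_t(f)` -/
theorem lte {p f t i : ℕ} (hp : 1 < p) (ht : t.Prime) (hf : 1 ≤ f) (hi : 1 ≤ i) (h : t ∣ (p ^ f) ^ i - 1) :
    1 + f.factorization t ≤ ((p ^ f) ^ i - 1).factorization t := by
  have := Fact.mk ht
  have hne : (p ^ f) ^ i - 1 ≠ 0 := by
    have h1 : 1 < p ^ f := Nat.one_lt_pow (by omega) hp
    have h2 : 1 < (p ^ f) ^ i := Nat.one_lt_pow (by omega) h1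
    omega
  rw [← ht.pow_dvd_iff_le_factorization hne]
  set k := f.factorization t with hk
  obtain ⟨f', hf'⟩ : ∃ f', f = t ^ k * f' := Nat.ordProj_dvd f t
  have e1 : (p ^ f) ^ i = (p ^ (f' * i)) ^ (t ^ k) := by
    rw [← pow_mul, ← pow_mul]
    congr 1
    nth_rw 1 [hf']
    ring
  have h1 : ∀ n : ℕ, ((p ^ n - 1 : ℕ) : ℤ) = (p : ℤ) ^ n - 1 := fun n => by
    rw [Nat.cast_sub (Nat.one_le_pow _ _ (by omega))]; push_cast; ring
  have e2 : (((p ^ f) ^ i - 1 : ℕ) : ℤ) = ((p : ℤ) ^ (f' * i)) ^ (t ^ k) - 1 ^ (t ^ k) := by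
    rw [e1, ← pow_mul, h1, ← pow_mul, one_pow]
  have h2 : (t : ℤ) ∣ ((p : ℤ) ^ (f' * i)) ^ (t ^ k) - 1 ^ (t ^ k) := e2 ▸ Int.natCast_dvd_natCast.2 h
  have h3 : (t : ℤ) ∣ (p : ℤ) ^ (f' * i) - 1 := by
    rw [← ZMod.intCast_zmod_eq_zero_iff_dvd] at h2 ⊢
    push_cast at h2 ⊢
    rw [one_pow] at h2
    rwa [ZMod.pow_card_pow] at h2
  have h4 := dvd_sub_pow_of_dvd_sub h3 k
  rw [← e2, add_comm] at h4
  exact_mod_cast h4

/-- `v_t |Out| = v_t(f)` for odd `t` -/
theorem v_out_odd (hZ : center (PSp m F) = ⊥) (hm : 2 ≤ m) (h22 : m = 2 → 3 ≤ Fintype.card F) [hp : Fact p.Prime]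
    (hF : Fintype.card F = p ^ f) {t : ℕ} (ht : t.Prime) (ht2 : t ≠ 2) :
    (out (PSp m F)).factorization t = f.factorization t := by
  have hf := (card_ne_one hp.1 hF).1
  rw [out_eq hZ hm h22 hF, Nat.factorization_mul (mul_ne_zero (by split_ifs <;> norm_num) (gcd_ne _)) (by omega),
    Nat.factorization_mul (by split_ifs <;> norm_num) (gcd_ne _), Finsupp.add_apply, Finsupp.add_apply,
    gcd_fact ht ht2, add_zero]
  split_ifs with h
  · have h1 : (2 : ℕ).factorization t = 0 := by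
      apply Nat.factorization_eq_zero_of_not_dvd
      intro h
      exact ht2 ((Nat.prime_dvd_prime_iff_eq ht Nat.prime_two).1 h)
    rw [h1, zero_add]
  · rw [Nat.factorization_one, Finsupp.zero_apply, zero_add]

/-- `v_p |Out| = v_p(f)` unless `m = p = 2` -/
theorem v_out_char (hZ : center (PSp m F) = ⊥) (hm : 2 ≤ m) (h22 : m = 2 → 3 ≤ Fintype.card F) [hp : Fact p.Prime]
    (hF : Fintype.card F = p ^ f) (h : ¬ (m = 2 ∧ p = 2)) :
    (out (PSp m F)).factorization p = f.factorization p := by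
  have hf := (card_ne_one hp.1 hF).1
  rw [out_eq hZ hm h22 hF, if_neg h, one_mul, Nat.factorization_mul (gcd_ne _) (by omega), Finsupp.add_apply,
    gcd_fact_char hf, zero_add]

/-- the primes dividing `q ^ (2 j) - 1` -/
theorem lt_v (hm : 2 ≤ m) [hp : Fact p.Prime] (hF : Fintype.card F = p ^ f) {t j : ℕ} (ht : t.Prime)
    (htq : ¬ t ∣ Fintype.card F) (ht2 : t ≠ 2) (hj : 1 ≤ j) (hjm : j ≤ m) (h : t ∣ Fintype.card F ^ (2 * j) - 1) :
    f.factorization t < v t (PSp m F) := by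
  have hf := (card_ne_one hp.1 hF).1
  rw [v_psp_odd (by omega) ht ht2, v_sp_eq htq]
  have h1 := Finset.single_le_sum (s := Finset.range m)
    (f := fun i => (Fintype.card F ^ (2 * (i + 1)) - 1).factorization t) (fun i _ => Nat.zero_le _)
    (Finset.mem_range.2 (show j - 1 < m by omega))
  have h2 : j - 1 + 1 = j := by omega
  simp only [h2] at h1
  rw [hF] at h h1 ⊢
  have h3 := lte hp.1.one_lt ht hf (by omega) h
  omega

/-- good primes -/
theorem good_of (hZ : center (PSp m F) = ⊥) (hm : 2 ≤ m) (h22 : m = 2 → 3 ≤ Fintype.card F) [hp : Fact p.Prime]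
    (hF : Fintype.card F = p ^ f) {t j : ℕ} (hj : 2 ≤ j) (hjm : j ≤ m) (h : Ppd (Fintype.card F) (2 * j) t) :
    Good (PSp m F) t := by
  have := h.le (by omega)
  refine ⟨h.prime, by omega, ?_⟩
  rw [v_out_odd hZ hm h22 hF h.prime (by omega)]
  exact lt_v hm hF h.prime h.not_dvd (by omega) (by omega) hjm ((h.iff _).2 dvd_rfl)

end Cfsg.Agent.H767.PD
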