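import Cfsg.Agent.H767.PD.Num
import Cfsg.Agent.H767.PD.OddOne
import Cfsg.Agent.H160.PD.Crit

/-!
# The row of `PSp_2m(q)`, `m ≥ 3` (helper767, S4246 row PSp)
-/

set_option autoImplicit false
set_option linter.unusedSectionVars false

namespace Cfsg.Agent.H767.PD

open Cfsg Module Matrix Subgroup Cfsg.Agent.H568 Cfsg.Agent.H689 Cfsg.Agent.H458 Cfsg.Agent.H458.Zs
open Cfsg.Agent.H458.SpOp Cfsg.Agent.H458.SpAut
open Cfsg.Agent.ClassicalGeometry.SympBasic Cfsg.Agent.ClassicalGeometry.SympAutSemi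
open Cfsg.Agent.H160.PD (v Fx mem_Fx Uniq out Good Inc Two Row)

theorem three_pow_ge (n : ℕ) : 2 * n + 1 ≤ 3 ^ n := by
  induction n with
  | zero => simp
  | succ n ih => rw [pow_succ]; omega

theorem fact_small {p n : ℕ} (hp : p.Prime) (hp2 : p ≠ 2) (hn : 1 ≤ n) : 2 * n.factorization p + 1 ≤ n := by
  have h1 : p ^ n.factorization p ≤ n := Nat.le_of_dvd (by omega) (Nat.ordProj_dvd n p)
  have h2 : 3 ^ n.factorization p ≤ p ^ n.factorization p := by
    apply Nat.pow_le_pow_left
    have := hp.two_le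
    omega
  have h3 := three_pow_ge (n.factorization p)
  omega

theorem fact_two_mul {p n : ℕ} (hp : p.Prime) (hp2 : p ≠ 2) (hn : 1 ≤ n) :
    (2 * n).factorization p = n.factorization p := by
  have h1 : (2 : ℕ).factorization p = 0 := by
    apply Nat.factorization_eq_zero_of_not_dvd
    intro h
    exact hp2 ((Nat.prime_dvd_prime_iff_eq hp Nat.prime_two).1 h)
  rw [Nat.factorization_mul (by norm_num) (by omega), Finsupp.add_apply, h1, zero_add]

variable {m : ℕ} {F : Type} [Field F] [Fintype F] {p f : ℕ}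

local notation "Sp" => Matrix.symplecticGroup (Fin m) F

/-- **`Inc`.** -/
theorem inc (hZ : center (PSp m F) = ⊥) (hm : 3 ≤ m) [hp : Fact p.Prime] (hF : Fintype.card F = p ^ f) {r₀ r₁ : ℕ}
    (h0 : Ppd p (2 * m * f) r₀) (h0' : Ppd (Fintype.card F) (2 * m) r₀)
    (h1 : Ppd (Fintype.card F) (2 * (m - 1)) r₁) : Inc (PSp m F) r₀ r₁ := by
  intro b hb hb2 x hx hbx y hy hby
  have hf := (card_ne_one hp.1 hF).1
  have hpos : 0 < 2 * m * f := Nat.mul_pos (by omega) (by omega)
  have hle0 := h0'.le (by omega)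
  have hle1 := h1.le (by omega)
  obtain ⟨s, x', hs, hbs, hx', -, hsx⟩ := inner_of_fix hZ (by omega) (by omega) hF h0 hpos (by omega) (by omega)
    hb hb2 hx hbx
  obtain ⟨y', rfl, hy'⟩ := exists_lift (by omega) h1.prime (by omega) y hy
  rw [hbs] at hby
  have hsy : s * y' = y' * s := Quot.comm_of_conj (pr m F) ker_pr.le (coprime_ker (by omega) h1.prime (by omega))
    (by rw [← hy', pow_orderOf_eq_one]) hby
  have ht : (orderOf s).Prime := hs ▸ hb
  have ht2 : orderOf s ≠ 2 := hs ▸ hb2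
  have hd : orderOf s ∣ Fintype.card F ^ m + 1 :=
    orderOf_dvd_of_pow_eq_one (pow_eq_one hx' h0' (by omega) hsx)
  have hnd : ¬ orderOf s ∣ Fintype.card F ^ (m - 1) + 1 := by
    intro h
    rw [dvd_iff'] at hd h
    have h6 : (Fintype.card F : ZMod (orderOf s)) ^ m =
        (Fintype.card F : ZMod (orderOf s)) ^ (m - 1) * (Fintype.card F : ZMod (orderOf s)) := by
      rw [← pow_succ, Nat.sub_add_cancel (by omega)]
    rw [h, hd] at h6
    have h7 : (Fintype.card F : ZMod (orderOf s)) = 1 := by linear_combination h6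
    rw [h7, one_pow] at h
    apply two_ne ht ht2
    linear_combination h
  obtain ⟨w, hw0, hw⟩ := exists_fixed_of_comm hy' h1 hm hsy ht (pow_orderOf_eq_one s) hnd
  have h2 := eq_one_of_fixed hx' h0' (by omega) hsx hw0 hw
  rw [h2, orderOf_one] at ht
  exact ht.one_lt.ne rfl

/-- **The row for `m ≥ 3`.** -/
theorem row_three (hZ : center (PSp m F) = ⊥) (hm : 3 ≤ m) [hp : Fact p.Prime] (hF : Fintype.card F = p ^ f)
    (h3 : ¬ (p = 2 ∧ 2 * m * f = 6)) (h4 : ¬ (p = 2 ∧ 2 * (m - 1) * f = 6)) : Row (PSp m F) := by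
  obtain ⟨hf, hpq⟩ := card_ne_one hp.1 hF
  have hkm : 3 * f ≤ m * f := Nat.mul_le_mul_right f hm
  have hkm1 : 2 * f ≤ (m - 1) * f := Nat.mul_le_mul_right f (by omega)
  have hmm : (m - 1) * f + f = m * f := by
    rw [← Nat.succ_mul]
    congr 1
    omega
  have e1 : 2 * m * f = 2 * (m * f) := by ring
  have e2 : 2 * (m - 1) * f = 2 * ((m - 1) * f) := by ring
  obtain ⟨r₀, h0⟩ := exists_ppd (q := p) (k := 2 * m * f) hp.1.two_le (by omega) h3
  obtain ⟨r₁, h1⟩ := exists_ppd (q := p) (k := 2 * (m - 1) * f) hp.1.two_le (by omega) h4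
  have h0' : Ppd (Fintype.card F) (2 * m) r₀ := by
    rw [hF]; exact ppd_field (by omega) (by rw [mul_comm]; exact h0)
  have h1' : Ppd (Fintype.card F) (2 * (m - 1)) r₁ := by
    rw [hF]; exact ppd_field (by omega) (by rw [mul_comm]; exact h1)
  have hle0 := h0.le (by omega)
  have hle1 := h1.le (by omega)
  have h22 : m = 2 → 3 ≤ Fintype.card F := by omega
  have hoc : (out (PSp m F)).factorization p = f.factorization p := v_out_char hZ (by omega) h22 hF (by omega)
  have hvS : v p (PSp m F) = m ^ 2 * f := v_psp_char (by omega) hF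
  have hvf : f.factorization p < f := Nat.factorization_lt p (by omega)
  have hm2 : m ^ 2 * f = m * (m * f) := by ring
  have hm3 : 3 * (m * f) ≤ m * (m * f) := Nat.mul_le_mul_right _ hm
  refine (Two.row hZ (p := p) (r₀ := r₀) (r₁ := r₁) (c₀ := 0) (c₁ := f) (cE := f)
    (m₀ := (2 * m).factorization p) (m₁ := 2 * m * f + (f + (2 * (m - 1)).factorization p)) ?_)
  refine
    { prime := hp.1
      good₀ := good_of hZ (by omega) h22 hF (by omega) le_rfl h0'
      good₁ := good_of hZ (by omega) h22 hF (j := m - 1) (by omega) (by omega) h1'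
      cent₀ := fun x hx => (v_cent_zero (by omega) hp.1 hF h0' hx).le
      cent₁ := fun x hx => v_cent_one hm hp.1 hF h1' hx
      noOdd := noOdd hm h0' h1'
      inc := inc hZ hm hF h0 h0' h1'
      syl₀ := ?_
      syl₁ := ?_
      cc := ?_
      num := ?_
      odd₀ := fun _ H hH hr => odd_zero (by omega) hF h0' H hH hr
      odd₁ := fun _ H hH hr => odd_one hm hF h1' H hH hr
      n₀ := ?_
      n₁ := ?_
      n₀₁ := ?_ }
  · intro b hb hb2 hbp x hx hbx
    obtain ⟨s, -, hs, hbs, -, -, -⟩ := inner_of_fix hZ (by omega) h22 hF h0 (by omega) (by omega) (by omega)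
      hb hb2 hx hbx
    have h5 := v_Fx_inner (by omega) hp.1 hF hbs (hs ▸ hb) (hs ▸ hb2) (hs ▸ hbp)
    rw [hoc, hvS, max_self]
    omega
  · intro b hb hb2 hbp x hx hbx
    obtain ⟨s, -, hs, hbs, -, -, -⟩ := inner_of_fix hZ (by omega) h22 hF h1 (by omega) (by omega) (by omega)
      hb hb2 hx hbx
    have h5 := v_Fx_inner (by omega) hp.1 hF hbs (hs ▸ hb) (hs ▸ hb2) (hs ▸ hbp)
    rw [hoc, hvS, max_eq_right (by omega)]
    omega
  · rw [hoc, hvS]
    omega
  · intro t ht ht2 htp htS _ _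
    have htq : ¬ t ∣ Fintype.card F := by
      intro h
      rw [hF] at h
      exact htp ((Nat.prime_dvd_prime_iff_eq ht hp.1).1 (ht.dvd_of_dvd_pow h))
    have hvo : (out (PSp m F)).factorization t = f.factorization t := v_out_odd hZ (by omega) h22 hF ht ht2
    by_cases c0 : Ppd (Fintype.card F) (2 * m) t
    · left
      rw [hvo]
      exact ⟨lt_v (by omega) hF ht htq ht2 (by omega) le_rfl ((c0.iff _).2 dvd_rfl), fun y hy => by
        rw [v_cent_zero (by omega) hp.1 hF c0 hy]
        exact Nat.zero_le _⟩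
    by_cases c1 : Ppd (Fintype.card F) (2 * (m - 1)) t
    · left
      rw [hvo]
      exact ⟨lt_v (by omega) hF ht htq ht2 (j := m - 1) (by omega) (by omega) ((c1.iff _).2 dvd_rfl), fun y hy =>
        v_cent_one hm hp.1 hF c1 hy⟩
    right
    intro x y hx hy
    have hvt : v t (PSp m F) = ∑ i ∈ Finset.range m, (Fintype.card F ^ (2 * (i + 1)) - 1).factorization t := by
      rw [v_psp_odd (by omega) ht ht2, v_sp_eq htq]
    have hpos : 0 < v t (PSp m F) := (H160.PD.v_pos ht).2 htS
    have h5 : v t (centralizer {x}) ≤ (Fintype.card F ^ m + 1).factorization t :=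
      v_le_of_dvd (cent_zero_pr (by omega) h0' hx) (by omega)
    have h6 := v_le_of_dvd (t := t) (cent_one_pr hm h1' hy) (cent_one_ne hm)
    rw [hvo, hvt]
    rw [hvt] at hpos
    rw [hF] at c0 c1 hpos h5 h6 htq ⊢
    have h7 := num_ineq hp.1 hf hm ht ht2 c0 c1 hpos
    rw [Nat.factorization_eq_zero_of_not_dvd htq] at h7
    omega
  · intro hp2
    have h5 := fact_small hp.1 hp2 (n := m) (by omega)
    rw [fact_two_mul hp.1 hp2 (by omega), hoc, hvS]
    have h6 : m ≤ m * f := Nat.le_mul_of_pos_right m (by omega)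
    omega
  · intro hp2
    have h5 := fact_small hp.1 hp2 (n := m - 1) (by omega)
    have h7 := fact_small hp.1 hp2 (n := f) (by omega)
    rw [fact_two_mul hp.1 hp2 (by omega), hoc, hvS]
    have h6 : m ≤ m * f := Nat.le_mul_of_pos_right m (by omega)
    obtain ⟨k, rfl⟩ : ∃ k, m = k + 3 := ⟨m - 3, by omega⟩
    have h8 : k ≤ k * f := Nat.le_mul_of_pos_right k (by omega)
    have h9 : (k + 3) ^ 2 * f = k * (k * f) + 6 * (k * f) + 9 * f := by ring
    have h10 : 2 * (k + 3) * f = 2 * (k * f) + 6 * f := by ring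
    rw [h9, h10]
    have h11 : 0 ≤ k * (k * f) := Nat.zero_le _
    simp only [show k + 3 - 1 = k + 2 by omega] at *
    omega
  · intro hp2
    have h5 := fact_small hp.1 hp2 (n := m - 1) (by omega)
    have h5' := fact_small hp.1 hp2 (n := m) (by omega)
    have h7 := fact_small hp.1 hp2 (n := f) (by omega)
    rw [fact_two_mul hp.1 hp2 (by omega), fact_two_mul hp.1 hp2 (by omega), hoc, hvS]
    obtain ⟨k, rfl⟩ : ∃ k, m = k + 3 := ⟨m - 3, by omega⟩
    have h8 : k ≤ k * f := Nat.le_mul_of_pos_right k (by omega)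
    have h9 : (k + 3) ^ 2 * f = k * (k * f) + 6 * (k * f) + 9 * f := by ring
    have h10 : 2 * (k + 3) * f = 2 * (k * f) + 6 * f := by ring
    rw [h9, h10]
    have h11 : 0 ≤ k * (k * f) := Nat.zero_le _
    simp only [show k + 3 - 1 = k + 2 by omega] at *
    omega

end Cfsg.Agent.H767.PD
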