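import Cfsg.Agent.H458.SpAut
import Cfsg.Agent.LieClassical.SympCount

/-!
# The `p`-parts of the centralizers of the `p'`-elements of `Sp_2m(q)` (helper767, S4246 row PSp)

`v_cent_le` : `q = p ^ f`, `m ≥ 2`, `s ∈ Sp_2m(q)` of order prime to `p`, `s ≠ ±1`: `v_p |C(s)| + 2 f ≤ m² f`.

`qe v u c` : the element `x ↦ x + f(x,u) v + f(x,v) u + c f(x,v) v`, `f(v,u) = 0`, of the unipotent radical of the
stabilizer of `v`; a `p`-subgroup `P` of `C(s)` fixes some `v ≠ 0`, the radical `Q v` is normalised by `P` and contains
`q²` elements in different cosets of `C(s)`.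
-/

set_option autoImplicit false
set_option linter.unusedSectionVars false

namespace Cfsg.Agent.H767.PD

open Cfsg Module Matrix Subgroup Cfsg.Agent.H458.SpOp
open Cfsg.Agent.ClassicalGeometry.SympBasic Cfsg.Agent.ClassicalGeometry.SympAutSemi

/-! ### counting -/

theorem card_mul_le {G : Type*} [Group G] [Finite G] {P Z H : Subgroup G} (hPZ : P ≤ Z) (hPH : P ≤ H) {α : Type*}
    [Finite α] (t : α → G) (ht : ∀ a, t a ∈ H) (hinj : ∀ a b, (t a)⁻¹ * t b ∈ Z → a = b) :
    Nat.card P * Nat.card α ≤ Nat.card H := by
  rw [← Nat.card_prod]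
  refine Nat.card_le_card_of_injective (fun x : P × α => (⟨t x.2 * x.1, H.mul_mem (ht _) (hPH x.1.2)⟩ : H)) ?_
  rintro ⟨x, a⟩ ⟨y, b⟩ h
  have h1 : t a * (x : G) = t b * y := congrArg Subtype.val h
  have h2 : (t a)⁻¹ * t b = (x : G) * (y : G)⁻¹ := by
    rw [eq_mul_inv_iff_mul_eq, mul_assoc, ← h1, inv_mul_cancel_left]
  have h3 : a = b := hinj a b (h2 ▸ Z.mul_mem (hPZ x.2) (Z.inv_mem (hPZ y.2)))
  subst h3
  have h4 : x = y := Subtype.ext (mul_left_cancel h1)
  rw [h4]

variable {m : ℕ} {F : Type} [Field F]

local notation "V" => (Fin m ⊕ Fin m → F)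
local notation "ff" => sympForm m F
local notation "Sp" => Matrix.symplecticGroup (Fin m) F

/-- the linear map -/
def qm (v u : V) (c : F) : V →ₗ[F] V where
  toFun x := x + (ff x u • v + ff x v • u + (c * ff x v) • v)
  map_add' x y := by
    simp only [sympForm_add_left]
    module
  map_smul' a x := by
    simp only [sympForm_smul_left, RingHom.id_apply]
    module

theorem qm_apply (v u : V) (c : F) (x : V) : qm v u c x = x + (ff x u • v + ff x v • u + (c * ff x v) • v) := rfl

theorem swap0 {v u : V} (h : ff v u = 0) : ff u v = 0 := by rw [sympForm_swap, h, neg_zero]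

theorem qm_form {v u : V} (h : ff v u = 0) (c : F) (x y : V) : ff (qm v u c x) (qm v u c y) = ff x y := by
  have h' := swap0 h
  simp only [qm_apply, sympForm_add_left, sympForm_add_right, sympForm_smul_left, sympForm_smul_right, h, h',
    sympForm_self]
  rw [sympForm_swap u y, sympForm_swap v y]
  ring

/-- the element of the unipotent radical -/
noncomputable def qe (v u : V) (c : F) (h : ff v u = 0) : Sp :=
  ⟨LinearMap.toMatrix' (qm v u c), by
    rw [mem_symplecticGroup_iff]
    intro x y
    rw [LinearMap.toMatrix'_mulVec, LinearMap.toMatrix'_mulVec, qm_form h]⟩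

theorem op_qe {v u : V} {c : F} (h : ff v u = 0) (x : V) :
    op m F (qe v u c h) x = x + (ff x u • v + ff x v • u + (c * ff x v) • v) := by
  rw [op_apply]
  change (LinearMap.toMatrix' (qm v u c)) *ᵥ x = _
  rw [LinearMap.toMatrix'_mulVec, qm_apply]

theorem eq_of_op {g h : Sp} (H : ∀ x, op m F g x = op m F h x) : g = h :=
  op_injective (LinearMap.ext H)

theorem perp_add {v u u' : V} (h : ff v u = 0) (h' : ff v u' = 0) : ff v (u + u') = 0 := by
  rw [sympForm_add_right, h, h', add_zero]

theorem perp_neg {v u : V} (h : ff v u = 0) : ff v (-u) = 0 := by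
  rw [sympForm_neg_right, h, neg_zero]

theorem qe_mul {v u u' : V} {c c' : F} (h : ff v u = 0) (h' : ff v u' = 0) :
    qe v u c h * qe v u' c' h' = qe v (u + u') (c + c' + ff u' u) (perp_add h h') := by
  apply eq_of_op
  intro x
  rw [map_mul, Module.End.mul_apply, op_qe, op_qe, op_qe]
  simp only [sympForm_add_left, sympForm_add_right, sympForm_smul_left, h, swap0 h', sympForm_self]
  module

theorem qe_zero {v : V} (h : ff v 0 = 0) : qe v 0 0 h = 1 := by
  apply eq_of_op
  intro x
  rw [op_qe, map_one]
  simp

theorem qe_inv {v u : V} {c : F} (h : ff v u = 0) : (qe v u c h)⁻¹ = qe v (-u) (-c) (perp_neg h) := by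
  rw [inv_eq_iff_mul_eq_one, qe_mul]
  have h1 : (⟨u + -u, c + -c + ff (-u) u⟩ : V × F) = ⟨0, 0⟩ := by
    rw [sympForm_neg_left, sympForm_self]
    simp
  have h2 : u + -u = 0 := congrArg Prod.fst h1
  have h3 : c + -c + ff (-u) u = 0 := congrArg Prod.snd h1
  apply eq_of_op
  intro x
  rw [op_qe, map_one, h2, h3]
  simp

/-- the unipotent radical of the stabilizer of `v` -/
def Q (v : V) : Subgroup Sp where
  carrier := {g | ∃ (u : V) (c : F) (h : ff v u = 0), g = qe v u c h}
  mul_mem' := by
    rintro _ _ ⟨u, c, h, rfl⟩ ⟨u', c', h', rfl⟩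
    exact ⟨_, _, _, qe_mul h h'⟩
  one_mem' := ⟨0, 0, by simp, (qe_zero _).symm⟩
  inv_mem' := by
    rintro _ ⟨u, c, h, rfl⟩
    exact ⟨_, _, _, qe_inv h⟩

theorem mem_Q {v : V} {g : Sp} : g ∈ Q v ↔ ∃ (u : V) (c : F) (h : ff v u = 0), g = qe v u c h := Iff.rfl

theorem qe_pow {v u : V} {c : F} (h : ff v u = 0) (n : ℕ) :
    ∃ h', (qe v u c h) ^ n = qe v ((n : F) • u) ((n : F) * c) h' := by
  have hh : ∀ a : F, ff v (a • u) = 0 := fun a => by rw [sympForm_smul_right, h, mul_zero]
  refine ⟨hh _, ?_⟩
  induction n with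
  | zero =>
    apply eq_of_op
    intro x
    rw [pow_zero, map_one, op_qe]
    simp
  | succ n ih =>
    rw [pow_succ', ih, qe_mul]
    apply eq_of_op
    intro x
    rw [op_qe, op_qe, sympForm_smul_left, sympForm_self]
    have h1 : u + (n : F) • u = ((n + 1 : ℕ) : F) • u := by push_cast; module
    rw [h1]
    push_cast
    ring_nf

theorem isPGroup_Q {p : ℕ} [hp : Fact p.Prime] (hpF : (p : F) = 0) (v : V) : IsPGroup p (Q v) := by
  rintro ⟨_, u, c, h, rfl⟩
  refine ⟨1, Subtype.ext ?_⟩
  obtain ⟨h', h1⟩ := qe_pow (c := c) h p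
  rw [pow_one]
  change qe v u c h ^ p = 1
  rw [h1]
  apply eq_of_op
  intro x
  rw [op_qe, map_one, hpF]
  simp

/-- conjugation by elements fixing `v` -/
theorem conj_mem_Q {v : V} {g : Sp} (hg : op m F g v = v) {x : Sp} (hx : x ∈ Q v) : g * x * g⁻¹ ∈ Q v := by
  obtain ⟨u, c, h, rfl⟩ := hx
  have hf : ∀ x y, ff (op m F g x) (op m F g y) = ff x y := fun x y => op_form g x y
  have h1 : ff v (op m F g u) = 0 := by
    have := hf v u
    rw [hg, h] at this
    exact this
  refine ⟨op m F g u, c, h1, ?_⟩
  rw [mul_inv_eq_iff_eq_mul]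
  apply eq_of_op
  intro y
  rw [map_mul, map_mul, Module.End.mul_apply, Module.End.mul_apply, op_qe, op_qe, map_add, map_add, map_add, map_smul,
    map_smul, map_smul, hg, hf]
  have h2 : ff (op m F g y) v = ff y v := by
    have := hf y v
    rw [hg] at this
    exact this
  rw [h2]

theorem le_normalizer_Q {v : V} {P : Subgroup Sp} (hP : ∀ g ∈ P, op m F g v = v) :
    P ≤ Subgroup.normalizer ((Q v : Subgroup Sp) : Set Sp) := by
  intro g hg
  rw [mem_normalizer_iff]
  intro x
  constructor
  · intro hx
    exact conj_mem_Q (hP g hg) hx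
  · intro hx
    have h1 := conj_mem_Q (hP g⁻¹ (P.inv_mem hg)) hx
    have h2 : g⁻¹ * (g * x * g⁻¹) * g⁻¹⁻¹ = x := by group
    rwa [h2] at h1

/-! ### elements commuting with `s` -/

variable {s : Matrix.symplecticGroup (Fin m) F} {v : Fin m ⊕ Fin m → F}

/-- the equation for `qe v u c` to commute with `s` -/
theorem comm_eq {u : V} {c : F} {h : ff v u = 0} (hc : qe v u c h * s = s * qe v u c h) (x : V) :
    ff (op m F s x) u • v + ff (op m F s x) v • u + (c * ff (op m F s x) v) • v =
      ff x u • op m F s v + ff x v • op m F s u + (c * ff x v) • op m F s v := by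
  have h1 := congrArg (fun g => op m F g x) hc
  simp only [map_mul, Module.End.mul_apply, op_qe, map_add, map_smul] at h1
  exact add_left_cancel h1

theorem form_s (x y : V) : ff (op m F s x) (op m F s y) = ff x y := op_form s x y

/-- `v` not an eigenvector of `s` -/
theorem case_one {w : V} (hw : op m F s v = w) (hwv : ∀ a : F, w ≠ a • v) (hv : v ≠ 0)
    {u : V} {c : F} {h : ff v u = 0} (hc : qe v u c h * s = s * qe v u c h)
    (hu : ∀ a b : F, u ≠ a • v + b • w ∨ u = 0) : u = 0 ∧ c = 0 := by
  have hu0 : u = 0 := by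
    by_contra hne
    have hu' : ∀ a b : F, u ≠ a • v + b • w := fun a b => (hu a b).resolve_right hne
    -- `s` preserves `v^⊥`
    have h1 : ∀ x, ff x v = 0 → ff (op m F s x) v = 0 := by
      intro x hx
      by_contra h0
      have h2 := comm_eq hc x
      rw [hx, hw, zero_smul, add_zero, mul_zero, zero_smul, add_zero] at h2
      apply hu' (-(ff (op m F s x) v)⁻¹ * (ff (op m F s x) u + c * ff (op m F s x) v)) ((ff (op m F s x) v)⁻¹ * ff x u)
      have h3 : ff (op m F s x) v • u = ff x u • w - (ff (op m F s x) u + c * ff (op m F s x) v) • v := by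
        rw [← h2]; module
      have h4 : u = (ff (op m F s x) v)⁻¹ • (ff (op m F s x) v • u) := by
        rw [smul_smul, inv_mul_cancel₀ h0, one_smul]
      calc u = (ff (op m F s x) v)⁻¹ • (ff (op m F s x) v • u) := h4
        _ = (ff (op m F s x) v)⁻¹ • (ff x u • w - (ff (op m F s x) u + c * ff (op m F s x) v) • v) := by rw [h3]
        _ = _ := by module
    -- hence `v` is an eigenvector
    obtain ⟨y, hy⟩ : ∃ y, ff y v ≠ 0 := by
      by_contra hcon
      push Not at hcon
      exact hv (eq_zero_of_forall_sympForm_left hcon)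
    apply hwv ((ff y v)⁻¹ * ff (op m F s y) w * ((ff (op m F s y) v)⁻¹ * ff y v))
    have h5 : ff (op m F s y) v ≠ 0 := by
      intro h0
      have h6 : ∀ z, ff (op m F s z) v = 0 := by
        intro z
        have h7 : z = (z - (ff z v * (ff y v)⁻¹) • y) + (ff z v * (ff y v)⁻¹) • y := by module
        rw [h7, map_add, sympForm_add_left, h1 _ (by
          rw [sympForm_sub_left, sympForm_smul_left, mul_assoc, inv_mul_cancel₀ hy, mul_one, sub_self]), map_smul,
          sympForm_smul_left, h0, mul_zero, add_zero]
      apply hv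
      apply eq_zero_of_forall_sympForm_left
      intro z
      have h8 : z = op m F s (op m F s⁻¹ z) := by
        rw [← Module.End.mul_apply, ← map_mul, mul_inv_cancel, map_one, Module.End.one_apply]
      rw [h8]
      exact h6 _
    apply eq_of_forall_sympForm_left
    intro z
    have h8 : z = op m F s (op m F s⁻¹ z) := by
      rw [← Module.End.mul_apply, ← map_mul, mul_inv_cancel, map_one, Module.End.one_apply]
    rw [h8]
    set z' := op m F s⁻¹ z
    have h9 : z' = (z' - (ff z' v * (ff y v)⁻¹) • y) + (ff z' v * (ff y v)⁻¹) • y := by module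
    have h10 : ff (op m F s z') v = (ff z' v * (ff y v)⁻¹) * ff (op m F s y) v := by
      conv_lhs => rw [h9]
      rw [map_add, sympForm_add_left, h1 _ (by
          rw [sympForm_sub_left, sympForm_smul_left, mul_assoc, inv_mul_cancel₀ hy, mul_one, sub_self]), map_smul,
          sympForm_smul_left, zero_add]
    rw [sympForm_smul_right, h10, ← hw, form_s, form_s]
    field_simp
  refine ⟨hu0, ?_⟩
  subst hu0
  by_contra hc0
  obtain ⟨y, hy⟩ : ∃ y, ff y v ≠ 0 := by
    by_contra hcon
    push Not at hcon
    exact hv (eq_zero_of_forall_sympForm_left hcon)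
  have h2 := comm_eq hc y
  simp only [sympForm_zero_right, zero_smul, zero_add, smul_zero, map_zero] at h2
  rw [hw] at h2
  apply hwv ((c * ff y v)⁻¹ * (c * ff (op m F s y) v))
  have h3 : w = (c * ff y v)⁻¹ • ((c * ff y v) • w) := by
    rw [smul_smul, inv_mul_cancel₀ (mul_ne_zero hc0 hy), one_smul]
  rw [h3, ← h2, smul_smul]

/-- `v` an eigenvector -/
theorem form_eig {lam : F} (hl : op m F s v = lam • v) (x : V) : lam * ff (op m F s x) v = ff x v := by
  have h1 := form_s (s := s) x v
  rw [hl, sympForm_smul_right] at h1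
  exact h1

theorem case_eig {lam : F} (hl0 : lam ≠ 0) (hl : op m F s v = lam • v) (hv : v ≠ 0) {u : V} {c : F} {h : ff v u = 0}
    (hc : qe v u c h * s = s * qe v u c h) :
    (∃ a : F, op m F s u - lam⁻¹ • u = a • v) ∧ (u = 0 → c * (lam ^ 2 - 1) = 0) := by
  obtain ⟨y, hy⟩ : ∃ y, ff y v ≠ 0 := by
    by_contra hcon
    push Not at hcon
    exact hv (eq_zero_of_forall_sympForm_left hcon)
  have h3 : ff (op m F s y) v = lam⁻¹ * ff y v := by
    rw [← form_eig hl y, ← mul_assoc, inv_mul_cancel₀ hl0, one_mul]
  have h2 := comm_eq hc y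
  rw [hl, h3] at h2
  constructor
  · refine ⟨(ff y v)⁻¹ * (ff (op m F s y) u + c * (lam⁻¹ * ff y v) - ff y u * lam - c * ff y v * lam), ?_⟩
    have h4 : ff y v • (op m F s u - lam⁻¹ • u) =
        (ff (op m F s y) u + c * (lam⁻¹ * ff y v) - ff y u * lam - c * ff y v * lam) • v := by
      have h5 : ff y v • (op m F s u - lam⁻¹ • u) = (ff y u • lam • v + ff y v • op m F s u + (c * ff y v) • lam • v)
          - (ff y u • lam • v + (lam⁻¹ * ff y v) • u + (c * ff y v) • lam • v) := by module
      rw [h5, ← h2]
      module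
    rw [mul_smul, ← h4, smul_smul, inv_mul_cancel₀ hy, one_smul]
  · rintro rfl
    simp only [sympForm_zero_right, zero_smul, zero_add, smul_zero, map_zero] at h2
    have h5 : (c * (lam⁻¹ * ff y v) - c * ff y v * lam) • v = 0 := by
      rw [sub_smul, h2, smul_smul, sub_self]
    have h6 : c * (lam⁻¹ * ff y v) - c * ff y v * lam = 0 := by
      rcases smul_eq_zero.1 h5 with h6 | h6
      · exact h6
      · exact absurd h6 hv
    have h7 : c * (lam ^ 2 - 1) * ff y v = 0 := by
      have h8 : lam * (c * (lam⁻¹ * ff y v) - c * ff y v * lam) = 0 := by rw [h6, mul_zero]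
      have h9 : lam * (c * (lam⁻¹ * ff y v) - c * ff y v * lam) = -(c * (lam ^ 2 - 1) * ff y v) := by
        field_simp
        ring
      rw [h9, neg_eq_zero] at h8
      exact h8
    rcases mul_eq_zero.1 h7 with h8 | h8
    · exact h8
    · exact absurd h8 hy

/-- the differences of two elements of `Q v` -/
theorem qe_inv_mul {u u' : V} {c c' : F} (h : ff v u = 0) (h' : ff v u' = 0) :
    (qe v u c h)⁻¹ * qe v u' c' h' = qe v (-u + u') (-c + c' + ff u' (-u)) (perp_add (perp_neg h) h') := by
  rw [qe_inv, qe_mul]

variable [Fintype F]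

/-- **Many cosets.** -/
theorem exists_cosets (hm : 2 ≤ m) (hv : v ≠ 0) {N : ℕ} (hN : (N : F) ≠ 0) (hs : s ^ N = 1)
    (hs1 : ∀ lam : F, (∀ x, op m F s x = lam • x) → lam ^ 2 ≠ 1) :
    ∃ t : F × F → Sp, (∀ a, t a ∈ Q v) ∧ ∀ a b, (t a)⁻¹ * t b * s = s * ((t a)⁻¹ * t b) → a = b := by
  classical
  by_cases heig : ∃ lam : F, op m F s v = lam • v
  · obtain ⟨lam, hl⟩ := heig
    have hpow : ∀ n : ℕ, ((op m F s) ^ n) v = lam ^ n • v := by
      intro n
      induction n with
      | zero => simp
      | succ n ih => rw [pow_succ', Module.End.mul_apply, ih, map_smul, hl, smul_smul, pow_succ]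
    have hlN : lam ^ N = 1 := by
      have h1 := hpow N
      rw [← map_pow, hs, map_one, Module.End.one_apply] at h1
      have h2 : (lam ^ N - 1) • v = 0 := by rw [sub_smul, ← h1, one_smul, sub_self]
      rcases smul_eq_zero.1 h2 with h3 | h3
      · exact sub_eq_zero.1 h3
      · exact absurd h3 hv
    have hN0 : N ≠ 0 := by rintro rfl; exact hN (by simp)
    have hl0 : lam ≠ 0 := by
      rintro rfl
      rw [zero_pow hN0] at hlN
      exact zero_ne_one hlN
    by_cases hl2 : lam ^ 2 = 1
    · -- eigenvalue `±1`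
      have hli : lam⁻¹ = lam := by
        exact inv_eq_of_mul_eq_one_left (by rw [← sq, hl2])
      set D : V →ₗ[F] V := op m F s - lam • 1 with hD
      have hDa : ∀ x, D x = op m F s x - lam • x := fun _ => rfl
      -- the kernel and the image meet trivially
      have hdisj : ∀ z, D (D z) = 0 → D z = 0 := by
        intro z hz
        set y := D z with hy
        have hsz : op m F s z = lam • z + y := by rw [hy, hDa]; module
        have hsy : op m F s y = lam • y := by
          rw [hDa] at hz
          exact sub_eq_zero.1 hz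
        have h1 : ∀ n : ℕ, ((op m F s) ^ n) z = lam ^ n • z + ((n : F) * lam ^ (n - 1)) • y := by
          intro n
          induction n with
          | zero => simp
          | succ n ih =>
            rw [pow_succ', Module.End.mul_apply, ih, map_add, map_smul, map_smul, hsz, hsy]
            rcases Nat.eq_zero_or_pos n with h0 | h0
            · subst h0; simp
            · obtain ⟨j, rfl⟩ : ∃ j, n = j + 1 := ⟨n - 1, by omega⟩
              simp only [Nat.add_sub_cancel]
              push_cast
              module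
        have h2 := h1 N
        rw [← map_pow, hs, map_one, Module.End.one_apply, hlN, one_smul, left_eq_add] at h2
        rcases smul_eq_zero.1 h2 with h3 | h3
        · exfalso
          rcases mul_eq_zero.1 h3 with h4 | h4
          · exact hN h4
          · exact pow_ne_zero _ hl0 h4
        · exact h3
      have hne : ∃ z, D z ≠ 0 := by
        by_contra hcon
        push Not at hcon
        refine hs1 lam (fun x => ?_) hl2
        have := hcon x
        rw [hDa] at this
        exact sub_eq_zero.1 this
      -- orthogonality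
      have horth : ∀ x z, D x = 0 → ff x (D z) = 0 := by
        intro x z hx
        have h1 : op m F s x = lam • x := by
          rw [hDa] at hx
          exact sub_eq_zero.1 hx
        have h2 := form_s (s := s) x z
        rw [h1, sympForm_smul_left] at h2
        rw [hDa, sympForm_sub_right, sympForm_smul_right, ← h2, ← mul_assoc, ← sq, hl2, one_mul, sub_self]
      have hcomp : ∀ x, ∃ z e, D e = 0 ∧ x = D z + e := by
        intro x
        have h1 : Disjoint (LinearMap.ker D) (LinearMap.range D) := by
          rw [Submodule.disjoint_def]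
          rintro y hy ⟨z, rfl⟩
          exact hdisj z (LinearMap.mem_ker.1 hy)
        have h2 : LinearMap.range D ⊔ LinearMap.ker D = ⊤ := by
          apply Submodule.eq_top_of_disjoint _ _ _ h1.symm
          rw [LinearMap.finrank_range_add_finrank_ker]
        obtain ⟨y, ⟨z, rfl⟩, e, he, rfl⟩ := Submodule.mem_sup.1 (h2 ▸ Submodule.mem_top : x ∈ LinearMap.range D ⊔ LinearMap.ker D)
        exact ⟨z, e, LinearMap.mem_ker.1 he, rfl⟩
      obtain ⟨z₁, hz₁⟩ := hne
      obtain ⟨x₂, hx₂⟩ : ∃ y, ff y (D z₁) ≠ 0 := by
        by_contra hcon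
        push Not at hcon
        exact hz₁ (eq_zero_of_forall_sympForm_left hcon)
      obtain ⟨z₂, e, he, rfl⟩ := hcomp x₂
      have h12 : ff (D z₂) (D z₁) ≠ 0 := by
        rwa [sympForm_add_left, horth e z₁ he, add_zero] at hx₂
      have hDv : D v = 0 := by rw [hDa, hl, sub_self]
      have hperp : ∀ a b : F, ff v (a • D z₁ + b • D z₂) = 0 := by
        intro a b
        rw [sympForm_add_right, sympForm_smul_right, sympForm_smul_right, horth v z₁ hDv, horth v z₂ hDv]
        ring
      refine ⟨fun ab => qe v (ab.1 • D z₁ + ab.2 • D z₂) 0 (hperp _ _), fun ab => ⟨_, _, _, rfl⟩, ?_⟩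
      rintro ⟨a, b⟩ ⟨a', b'⟩ hc
      rw [qe_inv_mul] at hc
      obtain ⟨⟨k, hk⟩, -⟩ := case_eig hl0 hl hv hc
      rw [hli] at hk
      simp only at hk
      set y := -(a • D z₁ + b • D z₂) + (a' • D z₁ + b' • D z₂) with hy
      have h1 : D (D ((a' - a) • z₁ + (b' - b) • z₂)) = k • v := by
        rw [← hk, hDa (D _)]
        have h2 : D ((a' - a) • z₁ + (b' - b) • z₂) = y := by
          rw [map_add, map_smul, map_smul, hy]; module
        rw [h2]
      have h3 : D (D (D ((a' - a) • z₁ + (b' - b) • z₂))) = 0 := by rw [h1, map_smul, hDv, smul_zero]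
      have h4 := hdisj _ h3
      have h5 := hdisj _ h4
      rw [map_add, map_smul, map_smul] at h5
      have h6 : ff ((a' - a) • D z₁ + (b' - b) • D z₂) (D z₁) = 0 := by rw [h5]; simp
      rw [sympForm_add_left, sympForm_smul_left, sympForm_smul_left, sympForm_self, mul_zero, zero_add] at h6
      have hb : b' - b = 0 := (mul_eq_zero.1 h6).resolve_right h12
      rw [hb, zero_smul, add_zero] at h5
      have ha : a' - a = 0 := (smul_eq_zero.1 h5).resolve_right hz₁
      rw [sub_eq_zero] at ha hb
      rw [ha, hb]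
    · -- eigenvalue with `lam ^ 2 ≠ 1`
      obtain ⟨u₀, hu₀, hn⟩ : ∃ u₀, ff v u₀ = 0 ∧ ∀ a : F, op m F s u₀ - lam⁻¹ • u₀ ≠ a • v := by
        by_contra hcon
        push Not at hcon
        -- `s = lam⁻¹` on `v^⊥ / v`
        obtain ⟨u, u', hu, hu', huu⟩ : ∃ u u', ff v u = 0 ∧ ff v u' = 0 ∧ ff u u' ≠ 0 := by
          by_contra hcon2
          push Not at hcon2
          -- `v^⊥` totally isotropic, of dimension `≥ 2 m - 1 > m`
          obtain ⟨y, hy⟩ : ∃ y, ff v y ≠ 0 := by
            by_contra hcon3
            push Not at hcon3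
            exact hv (eq_zero_of_forall_sympForm_right hcon3)
          have h1 : ∀ u, ff v u = 0 → ∃ a : F, u = a • v := by
            intro u hu
            refine ⟨ff u y * (ff v y)⁻¹, ?_⟩
            rw [← sub_eq_zero]
            apply eq_zero_of_forall_sympForm_right
            intro w
            have h2 : w = (w - (ff v w * (ff v y)⁻¹) • y) + (ff v w * (ff v y)⁻¹) • y := by module
            have h3 : ff v (w - (ff v w * (ff v y)⁻¹) • y) = 0 := by
              rw [sympForm_sub_right, sympForm_smul_right, mul_assoc, inv_mul_cancel₀ hy, mul_one, sub_self]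
            have h4 : ff (u - (ff u y * (ff v y)⁻¹) • v) (w - (ff v w * (ff v y)⁻¹) • y) = 0 := by
              rw [sympForm_sub_left, sympForm_smul_left, hcon2 u _ hu h3, h3]; ring
            have h5 : ff (u - (ff u y * (ff v y)⁻¹) • v) y = 0 := by
              rw [sympForm_sub_left, sympForm_smul_left, mul_assoc, inv_mul_cancel₀ hy, mul_one, sub_self]
            rw [h2, sympForm_add_right, h4, sympForm_smul_right, h5]; ring
          -- dimension
          have h2 : finrank F (LinearMap.ker (sympBilin m F v)) + 1 ≥ 2 * m := by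
            have h3 := LinearMap.finrank_range_add_finrank_ker (sympBilin m F v)
            rw [finrank_V] at h3
            have h4 : finrank F (LinearMap.range (sympBilin m F v)) ≤ 1 := by
              have := Submodule.finrank_le (LinearMap.range (sympBilin m F v))
              rwa [Module.finrank_self] at this
            omega
          have h3 : LinearMap.ker (sympBilin m F v) ≤ Submodule.span F {v} := by
            intro u hu
            obtain ⟨a, rfl⟩ := h1 u (LinearMap.mem_ker.1 hu)
            exact Submodule.smul_mem _ _ (Submodule.mem_span_singleton_self v)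
          have h4 := Submodule.finrank_mono h3
          rw [finrank_span_singleton hv] at h4
          omega
        obtain ⟨a, ha⟩ := hcon u hu
        obtain ⟨b, hb⟩ := hcon u' hu'
        have h1 := form_s (s := s) u u'
        rw [sub_eq_iff_eq_add.1 ha, sub_eq_iff_eq_add.1 hb] at h1
        simp only [sympForm_add_left, sympForm_add_right, sympForm_smul_left, sympForm_smul_right, sympForm_self, hu',
          swap0 hu] at h1
        have h2 : (lam⁻¹ ^ 2 - 1) * ff u u' = 0 := by linear_combination h1
        rcases mul_eq_zero.1 h2 with h3 | h3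
        · apply hl2
          have h4 : lam⁻¹ ^ 2 = 1 := by linear_combination h3
          rw [inv_pow, inv_eq_one] at h4
          exact h4
        · exact huu h3
      have hperp : ∀ a : F, ff v (a • u₀) = 0 := fun a => by rw [sympForm_smul_right, hu₀, mul_zero]
      refine ⟨fun ab => qe v (ab.1 • u₀) ab.2 (hperp _), fun ab => ⟨_, _, _, rfl⟩, ?_⟩
      rintro ⟨a, b⟩ ⟨a', b'⟩ hc
      rw [qe_inv_mul] at hc
      obtain ⟨⟨k, hk⟩, hk2⟩ := case_eig hl0 hl hv hc
      simp only at hk hk2
      have ha : a = a' := by
        by_contra hne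
        apply hn ((a' - a)⁻¹ * k)
        have h1 : (-(a • u₀) + a' • u₀ : V) = (a' - a) • u₀ := by module
        rw [h1, map_smul] at hk
        have h2 : (a' - a) • (op m F s u₀ - lam⁻¹ • u₀) = k • v := by rw [← hk]; module
        rw [mul_smul, ← h2, smul_smul, inv_mul_cancel₀ (sub_ne_zero.2 (Ne.symm hne)), one_smul]
      subst ha
      have h1 : (-(a • u₀) + a • u₀ : V) = 0 := by module
      have h2 := hk2 h1
      rw [sympForm_neg_right, sympForm_self, neg_zero, add_zero] at h2
      have h3 : -b + b' = 0 := (mul_eq_zero.1 h2).resolve_right (sub_ne_zero.2 hl2)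
      have h4 : b = b' := by linear_combination -h3
      rw [h4]
  · -- `v` not an eigenvector
    push Not at heig
    set w := op m F s v with hw
    obtain ⟨u₀, hu₀, hn⟩ : ∃ u₀, ff v u₀ = 0 ∧ ∀ a b : F, u₀ ≠ a • v + b • w := by
      by_contra hcon
      push Not at hcon
      have h2 : finrank F (LinearMap.ker (sympBilin m F v)) + 1 ≥ 2 * m := by
        have h3 := LinearMap.finrank_range_add_finrank_ker (sympBilin m F v)
        rw [finrank_V] at h3
        have h4 : finrank F (LinearMap.range (sympBilin m F v)) ≤ 1 := by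
          have := Submodule.finrank_le (LinearMap.range (sympBilin m F v))
          rwa [Module.finrank_self] at this
        omega
      have h3 : LinearMap.ker (sympBilin m F v) ≤ Submodule.span F {v, w} := by
        intro u hu
        obtain ⟨a, b, rfl⟩ := hcon u (LinearMap.mem_ker.1 hu)
        exact Submodule.add_mem _ (Submodule.smul_mem _ _ (Submodule.subset_span (by simp)))
          (Submodule.smul_mem _ _ (Submodule.subset_span (by simp)))
      have h4 := Submodule.finrank_mono h3
      have h5 : finrank F (Submodule.span F ({v, w} : Set V)) ≤ 2 := by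
        have := finrank_span_finset_le_card (R := F) ({v, w} : Finset V)
        have h6 : (({v, w} : Finset V)).card ≤ 2 := Finset.card_le_two
        have h7 : ((({v, w} : Finset V)) : Set V) = {v, w} := by simp
        rw [h7] at this
        exact this.trans h6
      omega
    have hperp : ∀ a : F, ff v (a • u₀) = 0 := fun a => by rw [sympForm_smul_right, hu₀, mul_zero]
    refine ⟨fun ab => qe v (ab.1 • u₀) ab.2 (hperp _), fun ab => ⟨_, _, _, rfl⟩, ?_⟩
    rintro ⟨a, b⟩ ⟨a', b'⟩ hc
    rw [qe_inv_mul] at hc
    have h1 : (-(a • u₀) + a' • u₀ : V) = (a' - a) • u₀ := by module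
    obtain ⟨h2, h3⟩ := case_one hw.symm heig hv hc (by
      intro k l
      simp only
      rw [h1]
      by_cases ha : a' - a = 0
      · right; rw [ha, zero_smul]
      · left
        intro h4
        apply hn ((a' - a)⁻¹ * k) ((a' - a)⁻¹ * l)
        rw [mul_smul, mul_smul, ← smul_add, ← h4, smul_smul, inv_mul_cancel₀ ha, one_smul])
    simp only at h2 h3
    rw [h1] at h2
    have hu0 : u₀ ≠ 0 := by
      rintro rfl
      exact hn 0 0 (by simp)
    have ha : a' - a = 0 := (smul_eq_zero.1 h2).resolve_right hu0
    rw [sub_eq_zero] at ha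
    subst ha
    rw [sympForm_neg_right, sympForm_self, neg_zero, add_zero] at h3
    have h4 : b = b' := by linear_combination -h3
    rw [h4]

end Cfsg.Agent.H767.PD
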